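/-
A block of imprimitivity from idempotents on the irreducible constituent over a normal subgroup.

Main result (namespace `Cfsg.Agent.Berger`): `exists_block`.
-/
import Cfsg.Agent.EqLemmas

set_option autoImplicit false

namespace Cfsg.Agent.Berger

open Module

variable {G : Type*} [Group G] {V W : Type*} [AddCommGroup V] [Module ℂ V] [AddCommGroup W] [Module ℂ W]

/-- The `M`-equivariant maps. -/
def homSub (M : Subgroup G) (ρ : Representation ℂ G V) (τ : Representation ℂ M W) :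
    Submodule ℂ (V →ₗ[ℂ] W) where
  carrier := {u | ∀ (m : M) v, u (ρ (m : G) v) = τ m (u v)}
  add_mem' := fun hu hv m v => by simp [hu m v, hv m v]
  zero_mem' := fun m v => by simp
  smul_mem' := fun c u hu m v => by simp [hu m v]

/-- An `M`-equivariant map vanishing on an `H`-invariant subspace vanishes, if `G = M H` acts
irreducibly. -/
theorem eq_zero_of_restrict (M H : Subgroup G) (hMH : ∀ g : G, ∃ m ∈ M, ∃ h ∈ H, g = m * h)
    (ρ : Representation ℂ G V)
    (hirr : ∀ Y : Submodule ℂ V, (∀ g, ∀ v ∈ Y, ρ g v ∈ Y) → Y = ⊥ ∨ Y = ⊤)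
    (X0 : Submodule ℂ V) (hX0 : ∀ h ∈ H, ∀ v ∈ X0, ρ h v ∈ X0) (hX00 : X0 ≠ ⊥)
    (τ : Representation ℂ M W) {u : V →ₗ[ℂ] W} (hu : u ∈ homSub M ρ τ) (h0 : u.domRestrict X0 = 0) :
    u = 0 := by
  let Y : Submodule ℂ V :=
    { carrier := {v | ∀ g : G, u (ρ g v) = 0}
      add_mem' := fun hv hw g => by simp [hv g, hw g]
      zero_mem' := fun g => by simp
      smul_mem' := fun c v hv g => by simp [hv g] }
  rcases hirr Y (fun g v hv g' => by
    rw [← Module.End.mul_apply, ← map_mul]; exact hv (g' * g)) with h | h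
  · exfalso
    refine hX00 (eq_bot_iff.mpr fun x hx => ?_)
    rw [← h]
    intro g
    obtain ⟨m, hm, k, hk, rfl⟩ := hMH g
    rw [map_mul, Module.End.mul_apply, hu ⟨m, hm⟩,
      show u (ρ k x) = 0 from LinearMap.congr_fun h0 ⟨ρ k x, hX0 k hk x hx⟩, map_zero]
  · refine LinearMap.ext fun v => ?_
    have hv : v ∈ Y := h ▸ Submodule.mem_top
    simpa using hv 1

universe uG uV uW

theorem exists_block {G : Type uG} [Group G] [Finite G] (M H : Subgroup G) [hM : M.Normal]
    (hMH : ∀ g : G, ∃ m ∈ M, ∃ h ∈ H, g = m * h) {V : Type uV} {W : Type uW} [AddCommGroup V] [Module ℂ V]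
    [FiniteDimensional ℂ V] [AddCommGroup W] [Module ℂ W] [FiniteDimensional ℂ W] [Nontrivial W]
    (ρ : Representation ℂ G V)
    (hirr : ∀ Y : Submodule ℂ V, (∀ g, ∀ v ∈ Y, ρ g v ∈ Y) → Y = ⊥ ∨ Y = ⊤)
    (X0 : Submodule ℂ V) (hX0 : ∀ h ∈ H, ∀ v ∈ X0, ρ h v ∈ X0) (hX00 : X0 ≠ ⊥)
    (τ : Representation ℂ M W) (a : ℕ) (e : V ≃ₗ[ℂ] (Fin a → W))
    (he : ∀ (m : M) v i, e (ρ (m : G) v) i = τ m (e v i))
    (K : Submodule ℂ (X0 →ₗ[ℂ] W)) (hK : ∀ u ∈ homSub M ρ τ, u.domRestrict X0 ∈ K)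
    (hKdim : finrank ℂ K ≤ a)
    {Λ : Type} [Fintype Λ] [Nontrivial Λ] (E : Λ → Module.End ℂ W) (hidem : ∀ l, E l * E l = E l)
    (horth : ∀ l l', l ≠ l' → E l * E l' = 0) (hsum : ∑ l, E l = 1)
    (hEK : ∀ l, ∀ g ∈ K, (E l).comp g ∈ K) (hEne : ∀ l, ∃ g ∈ K, (E l).comp g ≠ 0)
    (hperm : ∀ h ∈ H, ∃ T : (Module.End ℂ W)ˣ,
      (∀ m : M, (T : Module.End ℂ W) * τ m = τ ⟨h * m * h⁻¹, hM.conj_mem m m.2 h⟩ * T) ∧
        ∀ l, ∃ l', (T : Module.End ℂ W) * E l = E l' * T) :
    ∃ G0 : Subgroup G, M ≤ G0 ∧ G0 ≠ ⊤ ∧ ∃ X : Submodule ℂ V, X ≠ ⊥ ∧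
      (∀ g ∈ G0, ∀ v ∈ X, ρ g v ∈ X) ∧ finrank ℂ X * G0.index ≤ finrank ℂ V := by
  classical
  let U := homSub M ρ τ
  let coord : Fin a → U := fun i => ⟨(LinearMap.proj i).comp e.toLinearMap, fun m v => he m v i⟩
  have hjoint : ∀ v : V, (∀ u : U, (u : V →ₗ[ℂ] W) v = 0) → v = 0 := fun v hv =>
    e.injective (funext fun i => by simpa [coord] using hv (coord i))
  -- restriction to X0
  have hspan : ∀ u ∈ U, u.domRestrict X0 = 0 → u = 0 := fun u hu =>
    eq_zero_of_restrict M H hMH ρ hirr X0 hX0 hX00 τ hu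
  let r : U →ₗ[ℂ] K :=
    { toFun := fun u => ⟨(u : V →ₗ[ℂ] W).domRestrict X0, hK u u.2⟩
      map_add' := fun u v => rfl
      map_smul' := fun c u => rfl }
  have hrinj : Function.Injective r := by
    refine (injective_iff_map_eq_zero r).mpr fun u hu => Subtype.ext (hspan u u.2 (congrArg Subtype.val hu))
  have hUdim : a ≤ finrank ℂ U := by
    obtain ⟨w, hw⟩ := exists_ne (0 : W)
    have hli : LinearIndependent ℂ coord := by
      rw [Fintype.linearIndependent_iff]
      intro c hc i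
      have h2 := LinearMap.congr_fun (congrArg Subtype.val hc) (e.symm (Pi.single i w))
      simp only [coord, AddSubmonoidClass.coe_finset_sum, SetLike.val_smul, LinearMap.sum_apply,
        LinearMap.smul_apply, LinearMap.coe_comp, LinearMap.coe_proj, Function.comp_apply,
        Function.eval_apply, LinearEquiv.coe_coe, LinearEquiv.apply_symm_apply, Pi.single_apply,
        smul_ite, smul_zero, Finset.sum_ite_eq', Finset.mem_univ, if_true, ZeroMemClass.coe_zero,
        LinearMap.zero_apply] at h2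
      exact (smul_eq_zero.mp h2).resolve_right hw
    simpa using hli.fintype_card_le_finrank
  have hrle := LinearMap.finrank_le_finrank_of_injective hrinj
  have hUeq : finrank ℂ U = a := by omega
  let R : U ≃ₗ[ℂ] K := LinearEquiv.ofInjectiveOfFinrankEq r hrinj (by omega)
  let p : Λ → (U →ₗ[ℂ] U) := fun l =>
    R.symm.toLinearMap ∘ₗ
      ({ toFun := fun g => ⟨(E l).comp (g : X0 →ₗ[ℂ] W), hEK l g g.2⟩
         map_add' := fun g g' => Subtype.ext (LinearMap.comp_add _ _ _)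
         map_smul' := fun c g => Subtype.ext (LinearMap.comp_smul _ c _) } : K →ₗ[ℂ] K) ∘ₗ R.toLinearMap
  have hp : ∀ l (u : U) (x : X0), (p l u : V →ₗ[ℂ] W) (x : V) = E l ((u : V →ₗ[ℂ] W) x) := by
    intro l u x
    have h1 : R (p l u) = ⟨(E l).comp (R u : X0 →ₗ[ℂ] W), hEK l _ (R u).2⟩ := by
      simp only [p, LinearMap.coe_comp, LinearEquiv.coe_coe, Function.comp_apply, LinearEquiv.apply_symm_apply]
      rfl
    exact LinearMap.congr_fun (congrArg Subtype.val h1) x
  have hext : ∀ u v : U, (∀ x : X0, (u : V →ₗ[ℂ] W) x = (v : V →ₗ[ℂ] W) x) → u = v := fun u v h =>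
    hrinj (Subtype.ext (LinearMap.ext h))
  have hpsum : ∀ u : U, ∑ l, p l u = u := fun u => hext _ _ fun x => by
    simp only [AddSubmonoidClass.coe_finset_sum, LinearMap.sum_apply, hp]
    rw [← LinearMap.sum_apply, hsum, Module.End.one_apply]
  have hporth : ∀ l l' (u : U), p l (p l' u) = if l = l' then p l u else 0 := fun l l' u => hext _ _ fun x => by
    rw [hp, hp, ← Module.End.mul_apply]
    split_ifs with h
    · rw [← h, hidem, hp]
    · rw [horth l l' h]; rfl
  haveI : ∀ l, Module.Free ℂ (LinearMap.range (p l)) := fun l =>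
    Module.Free.of_divisionRing ℂ (LinearMap.range (p l))
  -- the blocks
  let X : Λ → Submodule ℂ V := fun l =>
    { carrier := {v | ∀ l', l' ≠ l → ∀ u : U, (p l' u : V →ₗ[ℂ] W) v = 0}
      add_mem' := fun hv hw l' h u => by simp [hv l' h u, hw l' h u]
      zero_mem' := fun l' h u => by simp
      smul_mem' := fun c v hv l' h u => by simp [hv l' h u] }
  have hbound : ∀ l, finrank ℂ (X l) ≤ finrank ℂ (LinearMap.range (p l)) * finrank ℂ W := by
    intro l
    let ev : X l →ₗ[ℂ] (LinearMap.range (p l) →ₗ[ℂ] W) :=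
      { toFun := fun v =>
          { toFun := fun u => ((u : U) : V →ₗ[ℂ] W) v
            map_add' := fun u u' => rfl
            map_smul' := fun c u => rfl }
        map_add' := fun v w => LinearMap.ext fun u => by simp
        map_smul' := fun c v => LinearMap.ext fun u => by simp }
    have hinj : Function.Injective ev := by
      refine (injective_iff_map_eq_zero ev).mpr fun v hv => Subtype.ext (hjoint _ fun u => ?_)
      rw [← hpsum u]
      simp only [AddSubmonoidClass.coe_finset_sum, LinearMap.sum_apply]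
      refine Finset.sum_eq_zero fun l' _ => ?_
      by_cases h : l' = l
      · subst h
        exact LinearMap.congr_fun hv ⟨p l' u, LinearMap.mem_range_self _ u⟩
      · exact v.2 l' h u
    have := LinearMap.finrank_le_finrank_of_injective hinj
    exact this.trans_eq (Module.finrank_linearMap ℂ ℂ (LinearMap.range (p l)) W)
  have htotal : ∑ l, finrank ℂ (LinearMap.range (p l)) ≤ a := by
    rw [← hUeq, ← finrank_pi_fintype ℂ]
    let S : (Π l, LinearMap.range (p l)) →ₗ[ℂ] U :=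
      { toFun := fun f => ∑ l, (f l : U)
        map_add' := fun f g => by simp [Finset.sum_add_distrib]
        map_smul' := fun c f => by simp [Finset.smul_sum] }
    refine LinearMap.finrank_le_finrank_of_injective (f := S) ?_
    have hS : ∀ (f : Π l, LinearMap.range (p l)) l, p l (S f) = (f l : U) := by
      intro f l
      obtain ⟨u, hu⟩ := (f l).2
      simp only [S, LinearMap.coe_mk, AddHom.coe_mk, map_sum]
      rw [Finset.sum_eq_single l (fun l' _ hl' => by
        obtain ⟨u', hu'⟩ := (f l').2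
        rw [← hu', hporth, if_neg (Ne.symm hl')]) (fun h => absurd (Finset.mem_univ _) h), ← hu, hporth,
        if_pos rfl]
    intro f g hfg
    funext l
    exact Subtype.ext (by rw [← hS f l, ← hS g l, hfg])
  have hVdim : finrank ℂ V = a * finrank ℂ W := by
    rw [e.finrank_eq, finrank_pi_fintype, Finset.sum_const, Finset.card_univ, Fintype.card_fin, smul_eq_mul]
  have hXne : ∀ l, X l ≠ ⊥ := by
    intro l
    obtain ⟨g, hg, hg0⟩ := hEne l
    have hu0 : p l (R.symm ⟨g, hg⟩) ≠ 0 := by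
      intro h
      apply hg0
      refine LinearMap.ext fun x => ?_
      have h1 := hp l (R.symm ⟨g, hg⟩) x
      rw [h] at h1
      have h2 : R (R.symm ⟨g, hg⟩) = ⟨g, hg⟩ := R.apply_symm_apply _
      have h3 : ((R.symm ⟨g, hg⟩ : U) : V →ₗ[ℂ] W) x = g x := LinearMap.congr_fun (congrArg Subtype.val h2) x
      rw [h3] at h1
      simpa using h1.symm
    obtain ⟨ℓ, hℓ⟩ : ∃ ℓ : Module.Dual ℂ U, ℓ (p l (R.symm ⟨g, hg⟩)) ≠ 0 := by
      by_contra hall
      push Not at hall
      exact hu0 ((Module.forall_dual_apply_eq_zero_iff ℂ _).mp hall)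
    obtain ⟨w, hw⟩ := exists_ne (0 : W)
    let evV : V →ₗ[ℂ] (U →ₗ[ℂ] W) :=
      { toFun := fun v =>
          { toFun := fun u => (u : V →ₗ[ℂ] W) v
            map_add' := fun u u' => rfl
            map_smul' := fun c u => rfl }
        map_add' := fun v v' => LinearMap.ext fun u => by simp
        map_smul' := fun c v => LinearMap.ext fun u => by simp }
    have hev : Function.Injective evV :=
      (injective_iff_map_eq_zero evV).mpr fun v hv => hjoint v fun u => LinearMap.congr_fun hv u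
    obtain ⟨v, hv⟩ := (LinearMap.injective_iff_surjective_of_finrank_eq_finrank
      (by rw [finrank_linearMap, hVdim, hUeq])).mp hev ((ℓ ∘ₗ p l).smulRight w)
    intro hbot
    have hvX : v ∈ X l := fun l' hl' u => by
      have := LinearMap.congr_fun hv (p l' u)
      simpa [evV, hporth, Ne.symm hl'] using this
    rw [hbot, Submodule.mem_bot] at hvX
    have h4 := LinearMap.congr_fun hv (p l (R.symm ⟨g, hg⟩))
    simp [evV, hvX, hporth] at h4
    exact smul_ne_zero hℓ hw h4.symm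
  have hM' : ∀ l, ∀ m ∈ M, ∀ v ∈ X l, ρ m v ∈ X l := fun l m hm v hv l' hl' u => by
    rw [(p l' u).2 ⟨m, hm⟩, hv l' hl' u, map_zero]
  -- permutation of the blocks
  have hmove : ∀ (h : G), h ∈ H → ∀ (T : (Module.End ℂ W)ˣ),
      (∀ m : M, (T : Module.End ℂ W) * τ m = τ ⟨h * m * h⁻¹, hM.conj_mem m m.2 h⟩ * T) →
      ∀ σ : Λ ≃ Λ, (∀ l, (T : Module.End ℂ W) * E l = E (σ l) * T) →
      ∀ l, ∀ v ∈ X l, ρ h v ∈ X (σ l) := by
    intro h hh T hT σ hσ l v hv l' hl' u
    have hu' : (((T⁻¹ : (Module.End ℂ W)ˣ) : Module.End ℂ W).comp ((u : V →ₗ[ℂ] W).comp (ρ h))) ∈ U := by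
      intro m w
      show ((T⁻¹ : (Module.End ℂ W)ˣ) : Module.End ℂ W) ((u : V →ₗ[ℂ] W) (ρ h (ρ (m : G) w)))
        = τ m (((T⁻¹ : (Module.End ℂ W)ˣ) : Module.End ℂ W) ((u : V →ₗ[ℂ] W) (ρ h w)))
      rw [← Module.End.mul_apply (ρ h), ← map_mul, show h * (m : G) = (h * m * h⁻¹) * h by group, map_mul,
        Module.End.mul_apply, u.2 ⟨h * m * h⁻¹, hM.conj_mem m m.2 h⟩, ← Module.End.mul_apply,
        ← Module.End.mul_apply]
      have h1 := hT m
      have h2 : ((T⁻¹ : (Module.End ℂ W)ˣ) : Module.End ℂ W) * τ ⟨h * m * h⁻¹, hM.conj_mem m m.2 h⟩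
          = τ m * ((T⁻¹ : (Module.End ℂ W)ˣ) : Module.End ℂ W) := by
        calc _ = ((T⁻¹ : (Module.End ℂ W)ˣ) : Module.End ℂ W) *
              (τ ⟨h * m * h⁻¹, hM.conj_mem m m.2 h⟩ * T) * ((T⁻¹ : (Module.End ℂ W)ˣ) : Module.End ℂ W) := by
              rw [mul_assoc _ _ ((T⁻¹ : (Module.End ℂ W)ˣ) : Module.End ℂ W), mul_assoc (τ _), Units.mul_inv, mul_one]
          _ = _ := by rw [← h1, ← mul_assoc, Units.inv_mul, one_mul]
      rw [h2]
    set u' : U := ⟨_, hu'⟩ with hu'def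
    obtain ⟨l₀, rfl⟩ := σ.surjective l'
    have hl0 : l₀ ≠ l := fun hh => hl' (by rw [hh])
    have key : ∀ w, (p (σ l₀) u : V →ₗ[ℂ] W) (ρ h w) = (T : Module.End ℂ W) ((p l₀ u' : V →ₗ[ℂ] W) w) := by
      have hu2 : (((T : Module.End ℂ W)).comp ((p l₀ u' : V →ₗ[ℂ] W).comp (ρ h⁻¹))) ∈ U := by
        intro m w
        show (T : Module.End ℂ W) ((p l₀ u' : V →ₗ[ℂ] W) (ρ h⁻¹ (ρ (m : G) w)))
          = τ m ((T : Module.End ℂ W) ((p l₀ u' : V →ₗ[ℂ] W) (ρ h⁻¹ w)))
        rw [← Module.End.mul_apply (ρ h⁻¹), ← map_mul,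
          show h⁻¹ * (m : G) = (h⁻¹ * m * h⁻¹⁻¹) * h⁻¹ by group, map_mul, Module.End.mul_apply,
          (p l₀ u').2 ⟨h⁻¹ * m * h⁻¹⁻¹, hM.conj_mem m m.2 h⁻¹⟩, ← Module.End.mul_apply,
          ← Module.End.mul_apply, hT]
        congr 3
        ext; simp [mul_assoc]
      have heq : p (σ l₀) u = ⟨_, hu2⟩ := hext _ _ fun x => by
        show (p (σ l₀) u : V →ₗ[ℂ] W) (x : V) = (T : Module.End ℂ W) ((p l₀ u' : V →ₗ[ℂ] W) (ρ h⁻¹ x))
        rw [hp, hp l₀ u' ⟨ρ h⁻¹ x, hX0 _ (inv_mem hh) _ x.2⟩, hu'def]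
        show _ = (T : Module.End ℂ W) (E l₀ (((T⁻¹ : (Module.End ℂ W)ˣ) : Module.End ℂ W)
          ((u : V →ₗ[ℂ] W) (ρ h (ρ h⁻¹ x)))))
        rw [← Module.End.mul_apply (ρ h), ← map_mul, mul_inv_cancel, map_one, Module.End.one_apply,
          ← Module.End.mul_apply, ← Module.End.mul_apply, hσ, mul_assoc, Units.mul_inv, mul_one]
      intro w
      rw [heq]
      show (T : Module.End ℂ W) ((p l₀ u' : V →ₗ[ℂ] W) (ρ h⁻¹ (ρ h w))) = _
      rw [← Module.End.mul_apply (ρ h⁻¹), ← map_mul, inv_mul_cancel, map_one, Module.End.one_apply]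
    rw [key, hv l₀ hl0 u', map_zero]
  have hEne' : ∀ l, E l ≠ 0 := fun l h => by
    obtain ⟨g, -, hg⟩ := hEne l
    exact hg (by rw [h]; exact LinearMap.zero_comp g)
  have himage : ∀ g : G, ∀ l, ∃ l', (X l).map (ρ g) = X l' := by
    intro g l
    obtain ⟨m, hm, h, hh, rfl⟩ := hMH g
    obtain ⟨T, hT, hT'⟩ := hperm h hh
    choose f hf using hT'
    have hfinj : Function.Injective f := by
      intro i j hij
      by_contra hne
      apply hEne' i
      have h1 : (T : Module.End ℂ W) * E i = (T : Module.End ℂ W) * E j := by rw [hf, hf, hij]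
      have h2 : E i = E j := (Units.mul_right_inj T).mp h1
      rw [← hidem i]
      nth_rewrite 2 [h2]
      exact horth i j hne
    let σ : Λ ≃ Λ := Equiv.ofBijective f ⟨hfinj, Finite.surjective_of_injective hfinj⟩
    refine ⟨σ l, le_antisymm ?_ ?_⟩
    · rintro _ ⟨v, hv, rfl⟩
      rw [map_mul, Module.End.mul_apply]
      exact hM' _ m hm _ (hmove h hh T hT σ hf l v hv)
    · intro v hv
      refine ⟨ρ h⁻¹ (ρ m⁻¹ v), ?_, ?_⟩
      · have h1 := hmove h⁻¹ (inv_mem hh) T⁻¹ (fun m' => by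
          have h2 := hT ⟨h⁻¹ * m' * h⁻¹⁻¹, hM.conj_mem m' m'.2 h⁻¹⟩
          rw [show (⟨h * ((⟨h⁻¹ * m' * h⁻¹⁻¹, hM.conj_mem m' m'.2 h⁻¹⟩ : M) : G) * h⁻¹,
            hM.conj_mem _ (Subtype.mem _) h⟩ : M) = m' by ext; simp [mul_assoc]] at h2
          calc ((T⁻¹ : (Module.End ℂ W)ˣ) : Module.End ℂ W) * τ m'
              = ((T⁻¹ : (Module.End ℂ W)ˣ) : Module.End ℂ W) * (τ m' * T)
                  * ((T⁻¹ : (Module.End ℂ W)ˣ) : Module.End ℂ W) := by
                rw [mul_assoc _ _ ((T⁻¹ : (Module.End ℂ W)ˣ) : Module.End ℂ W), mul_assoc (τ m'), Units.mul_inv,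
                  mul_one]
            _ = _ := by rw [← h2, ← mul_assoc, Units.inv_mul, one_mul]) σ.symm (fun i => by
          have h3 := hf (σ.symm i)
          rw [show f (σ.symm i) = i from σ.apply_symm_apply i] at h3
          calc ((T⁻¹ : (Module.End ℂ W)ˣ) : Module.End ℂ W) * E i
              = ((T⁻¹ : (Module.End ℂ W)ˣ) : Module.End ℂ W) * (E i * T)
                  * ((T⁻¹ : (Module.End ℂ W)ˣ) : Module.End ℂ W) := by
                rw [mul_assoc _ _ ((T⁻¹ : (Module.End ℂ W)ˣ) : Module.End ℂ W), mul_assoc (E i), Units.mul_inv,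
                  mul_one]
            _ = _ := by rw [← h3, ← mul_assoc, Units.inv_mul, one_mul]) (σ l) (ρ m⁻¹ v)
          (hM' _ m⁻¹ (inv_mem hm) v hv)
        rwa [Equiv.symm_apply_apply] at h1
      · rw [← Module.End.mul_apply, ← Module.End.mul_apply, ← map_mul, ← map_mul,
          show m * h * h⁻¹ * m⁻¹ = 1 by group, map_one, Module.End.one_apply]
  -- the stabiliser
  obtain ⟨l₀⟩ : Nonempty Λ := inferInstance
  have hone : ρ (1 : G) = LinearMap.id := map_one ρ
  have hmapmul : ∀ (g h : G), ((X l₀).map (ρ h)).map (ρ g) = (X l₀).map (ρ (g * h)) := fun g h => by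
    rw [← Submodule.map_comp, map_mul]; rfl
  let G0 : Subgroup G :=
    { carrier := {g | (X l₀).map (ρ g) = X l₀}
      one_mem' := by
        show (X l₀).map (ρ 1) = X l₀
        rw [hone]; exact Submodule.map_id _
      mul_mem' := fun {g h} hg hh => by
        show (X l₀).map (ρ (g * h)) = X l₀
        rw [← hmapmul, show (X l₀).map (ρ h) = X l₀ from hh]; exact hg
      inv_mem' := fun {g} hg => by
        show (X l₀).map (ρ g⁻¹) = X l₀
        conv_lhs => rw [← (show (X l₀).map (ρ g) = X l₀ from hg), hmapmul, inv_mul_cancel, hone]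
        exact Submodule.map_id _ }
  have hinv : ∀ g ∈ G0, ∀ v ∈ X l₀, ρ g v ∈ X l₀ := fun g hg v hv => by
    rw [← (show (X l₀).map (ρ g) = X l₀ from hg)]
    exact ⟨v, hv, rfl⟩
  choose F hF using fun q : G ⧸ G0 => himage q.out l₀
  have hFinj : Function.Injective F := by
    intro q q' hqq'
    rw [← QuotientGroup.out_eq' q, ← QuotientGroup.out_eq' q', QuotientGroup.eq]
    show (X l₀).map (ρ (q.out⁻¹ * q'.out)) = X l₀
    rw [← hmapmul, hF, ← hqq', ← hF, hmapmul, inv_mul_cancel, hone]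
    exact Submodule.map_id _
  have hFdim : ∀ q, finrank ℂ (X (F q)) = finrank ℂ (X l₀) := fun q => by
    rw [← hF]
    refine (Submodule.equivMapOfInjective (ρ q.out) ?_ (X l₀)).finrank_eq.symm
    exact Function.LeftInverse.injective (g := ρ q.out⁻¹) fun v => by
      rw [← Module.End.mul_apply, ← map_mul, inv_mul_cancel, map_one, Module.End.one_apply]
  haveI : Fintype (G ⧸ G0) := Fintype.ofFinite _
  refine ⟨G0, fun m hm => ?_, fun htop => ?_, X l₀, hXne l₀, hinv, ?_⟩
  · show (X l₀).map (ρ m) = X l₀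
    refine le_antisymm ?_ fun v hv => ⟨ρ m⁻¹ v, hM' _ _ (inv_mem hm) v hv, ?_⟩
    · rintro _ ⟨v, hv, rfl⟩; exact hM' _ m hm v hv
    · rw [← Module.End.mul_apply, ← map_mul, mul_inv_cancel, map_one, Module.End.one_apply]
  · -- properness
    obtain ⟨l₁, hl₁⟩ := exists_ne l₀
    have htopX : X l₀ = ⊤ :=
      (hirr _ fun g v hv => hinv g (htop ▸ Subgroup.mem_top g) v hv).resolve_left (hXne l₀)
    have h1 := hbound l₀
    rw [htopX, finrank_top, hVdim] at h1
    have h2 := Nat.le_of_mul_le_mul_right h1 finrank_pos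
    have h3 : finrank ℂ (LinearMap.range (p l₁)) ≠ 0 := fun h0 => hXne l₁ (by
      have := hbound l₁
      rw [h0, zero_mul] at this
      exact Submodule.finrank_eq_zero.mp (Nat.le_zero.mp this))
    have h4 := Finset.add_le_sum (f := fun l => finrank ℂ (LinearMap.range (p l))) (fun _ _ => Nat.zero_le _)
      (Finset.mem_univ l₀) (Finset.mem_univ l₁) hl₁.symm
    omega
  · calc finrank ℂ (X l₀) * G0.index = ∑ q : G ⧸ G0, finrank ℂ (X (F q)) := by
          rw [Finset.sum_congr rfl fun q _ => hFdim q, Finset.sum_const, Finset.card_univ, smul_eq_mul,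
            mul_comm, Subgroup.index_eq_card, Nat.card_eq_fintype_card]
      _ = ∑ l ∈ Finset.univ.image F, finrank ℂ (X l) := (Finset.sum_image (f := fun l => finrank ℂ (X l)) (fun q _ q' _ h => hFinj h)).symm
      _ ≤ ∑ l, finrank ℂ (X l) := Finset.sum_le_sum_of_subset (Finset.subset_univ _)
      _ ≤ ∑ l, finrank ℂ (LinearMap.range (p l)) * finrank ℂ W := Finset.sum_le_sum fun l _ => hbound l
      _ ≤ a * finrank ℂ W := by rw [← Finset.sum_mul]; exact Nat.mul_le_mul_right _ htotal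
      _ = finrank ℂ V := hVdim.symm

end Cfsg.Agent.Berger
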