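/-
Idempotents from a coprime abelian group of a projective representation.

Main result (namespace `Cfsg.Agent.Berger`): `exists_idempotents`.
-/
import Cfsg.Agent.EqLemmas

set_option autoImplicit false

namespace Cfsg.Agent.Berger

open Matrix

variable {b : ℕ}

/-- Invertible matrices. -/
abbrev GLb (b : ℕ) := (Matrix (Fin b) (Fin b) ℂ)ˣ

/-- Scalar matrices. -/
noncomputable def scal (b : ℕ) : ℂˣ →* GLb b :=
  Units.map ((algebraMap ℂ (Matrix (Fin b) (Fin b) ℂ)).toMonoidHom)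

lemma scal_val (c : ℂˣ) : ((scal b c : GLb b) : Matrix (Fin b) (Fin b) ℂ) = (c : ℂ) • 1 :=
  Algebra.algebraMap_eq_smul_one _

lemma scal_comm (c : ℂˣ) (u : GLb b) : scal b c * u = u * scal b c := by
  ext1
  simp [scal_val]

instance scal_range_normal (b : ℕ) : (scal b).range.Normal :=
  ⟨fun x hx g => by
    obtain ⟨c, rfl⟩ := hx
    exact ⟨c, by rw [← scal_comm, mul_inv_cancel_right]⟩⟩

/-- The projective linear group. -/
abbrev PGLb (b : ℕ) := GLb b ⧸ (scal b).range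

lemma mk_eq_one_iff (u : GLb b) : (QuotientGroup.mk u : PGLb b) = 1 ↔ ∃ c : ℂˣ, u = scal b c := by
  rw [QuotientGroup.eq_one_iff]
  exact ⟨fun ⟨c, hc⟩ => ⟨c, hc.symm⟩, fun ⟨c, hc⟩ => ⟨c, hc.symm⟩⟩

theorem exists_idempotents {G : Type*} [Group G] [Finite G] (J : G →* PGLb b) (D : Subgroup G)
    {r : ℕ} (hr : 0 < r) (hrb : Nat.Coprime r b)
    (hcomm : ∀ x ∈ D, ∀ y ∈ D, J x * J y = J y * J x) (hexp : ∀ x ∈ D, J x ^ r = 1)
    (hne : ∃ x ∈ D, J x ≠ 1) :
    ∃ (Λ : Type) (_ : Fintype Λ) (P : Λ → Matrix (Fin b) (Fin b) ℂ), Nontrivial Λ ∧ (∀ l, P l ≠ 0) ∧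
      (∀ l, P l * P l = P l) ∧ (∀ l l', l ≠ l' → P l * P l' = 0) ∧ (∑ l, P l = 1) ∧
      ∀ (h : G) (u : GLb b), (QuotientGroup.mk u : PGLb b) = J h → (∀ x ∈ D, h * x * h⁻¹ ∈ D) →
        ∀ l, ∃ l', (u : Matrix (Fin b) (Fin b) ℂ) * P l = P l' * u := by
  classical
  obtain ⟨x₀, hx₀, hJx₀⟩ := hne
  have hb : b ≠ 0 := by
    rintro rfl
    exact hJx₀ (by
      obtain ⟨u, hu⟩ := QuotientGroup.mk_surjective (J x₀)
      rw [← hu, mk_eq_one_iff]
      exact ⟨1, Units.ext (Subsingleton.elim _ _)⟩)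
  haveI : NeZero b := ⟨hb⟩
  have hscal : Function.Injective (scal b) := by
    intro c c' h
    have := congrArg (fun u : GLb b => (u : Matrix (Fin b) (Fin b) ℂ) 0 0) h
    simp only [scal_val, Matrix.smul_apply, Matrix.one_apply_eq, smul_eq_mul, mul_one] at this
    exact Units.ext this
  have hcommute : ∀ u v : GLb b, ∀ x ∈ D, ∀ y ∈ D, (QuotientGroup.mk u : PGLb b) = J x →
      (QuotientGroup.mk v : PGLb b) = J y → u ^ r = 1 → u * v = v * u := by
    intro u v x hx y hy hu hv hur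
    obtain ⟨z, hz⟩ := (mk_eq_one_iff _).mp (show (QuotientGroup.mk (v * u * v⁻¹ * u⁻¹) : PGLb b) = 1 by
      rw [QuotientGroup.mk_mul, QuotientGroup.mk_mul, QuotientGroup.mk_mul, QuotientGroup.mk_inv,
        QuotientGroup.mk_inv, hu, hv, ← hcomm x hx y hy, mul_inv_cancel_right, mul_inv_cancel])
    have hvu : v * u * v⁻¹ = scal b z * u := by rw [← hz, inv_mul_cancel_right]
    have h1 : scal b (z ^ r) = 1 := by
      have h2 := congrArg (· ^ r) hvu
      simp only [conj_pow, hur, mul_one, mul_inv_cancel, (show Commute (scal b z) u from scal_comm z u).mul_pow,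
        ← map_pow] at h2
      exact h2.symm
    have hzr : z ^ r = 1 := hscal (by rw [h1, map_one])
    have hzb : z ^ b = 1 := by
      have h3 := congrArg (fun w : GLb b => Matrix.det (w : Matrix (Fin b) (Fin b) ℂ)) hz
      simp only [Units.val_mul, Matrix.det_mul, scal_val, Matrix.det_smul, Matrix.det_one, mul_one,
        Fintype.card_fin] at h3
      refine Units.ext ?_
      rw [Units.val_pow_eq_pow_val, ← h3, Units.val_one]
      have hv' : Matrix.det (v : Matrix (Fin b) (Fin b) ℂ) * Matrix.det ((v⁻¹ : GLb b) : Matrix (Fin b) (Fin b) ℂ) = 1 := by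
        rw [← Matrix.det_mul, Units.mul_inv, Matrix.det_one]
      have hu' : Matrix.det (u : Matrix (Fin b) (Fin b) ℂ) * Matrix.det ((u⁻¹ : GLb b) : Matrix (Fin b) (Fin b) ℂ) = 1 := by
        rw [← Matrix.det_mul, Units.mul_inv, Matrix.det_one]
      linear_combination hv' + (Matrix.det (v : Matrix (Fin b) (Fin b) ℂ)
        * Matrix.det ((v⁻¹ : GLb b) : Matrix (Fin b) (Fin b) ℂ)) * hu'
    have hz1 : z = 1 := orderOf_eq_one_iff.mp (Nat.eq_one_of_dvd_coprimes hrb
      (orderOf_dvd_of_pow_eq_one hzr) (orderOf_dvd_of_pow_eq_one hzb))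
    rw [hz1, map_one, one_mul, mul_inv_eq_iff_eq_mul] at hvu
    exact hvu.symm
  -- the group of normalised lifts
  let Γ : Subgroup (GLb b) :=
    { carrier := {u | u ^ r = 1 ∧ ∃ x ∈ D, (QuotientGroup.mk u : PGLb b) = J x}
      one_mem' := ⟨one_pow r, 1, one_mem D, by rw [map_one]; rfl⟩
      mul_mem' := by
        rintro u v ⟨hu, x, hx, hux⟩ ⟨hv, y, hy, hvy⟩
        refine ⟨?_, x * y, mul_mem hx hy, by rw [QuotientGroup.mk_mul, hux, hvy, map_mul]⟩
        rw [(show Commute u v from hcommute u v x hx y hy hux hvy hu).mul_pow, hu, hv, one_mul]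
      inv_mem' := by
        rintro u ⟨hu, x, hx, hux⟩
        exact ⟨by rw [inv_pow, hu, inv_one], x⁻¹, inv_mem hx, by rw [QuotientGroup.mk_inv, hux, map_inv]⟩ }
  have hlift : ∀ x ∈ D, ∃ u ∈ Γ, (QuotientGroup.mk u : PGLb b) = J x := by
    intro x hx
    obtain ⟨u, hu⟩ := QuotientGroup.mk_surjective (J x)
    obtain ⟨c, hc⟩ := (mk_eq_one_iff (u ^ r)).mp (by rw [QuotientGroup.mk_pow, hu, hexp x hx])
    obtain ⟨e, he⟩ := IsAlgClosed.exists_pow_nat_eq ((c⁻¹ : ℂˣ) : ℂ) hr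
    have he0 : e ≠ 0 := fun h => (c⁻¹).ne_zero (by rw [← he, h, zero_pow hr.ne'])
    have hmk : (QuotientGroup.mk (scal b (Units.mk0 e he0) * u) : PGLb b) = J x := by
      rw [QuotientGroup.mk_mul, (mk_eq_one_iff _).mpr ⟨_, rfl⟩, one_mul, hu]
    refine ⟨scal b (Units.mk0 e he0) * u, ⟨?_, x, hx, hmk⟩, hmk⟩
    rw [(show Commute (scal b (Units.mk0 e he0)) u from scal_comm _ u).mul_pow, hc, ← map_pow, ← map_mul,
      show (Units.mk0 e he0) ^ r * c = 1 from ?_, map_one]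
    refine Units.ext ?_
    rw [Units.val_mul, Units.val_pow_eq_pow_val, Units.val_mk0, he, ← Units.val_mul, inv_mul_cancel]
  haveI : Finite Γ := by
    choose lf hlf hlf' using fun x : D => hlift x.1 x.2
    haveI : NeZero r := ⟨hr.ne'⟩
    let f : D × rootsOfUnity r ℂ → GLb b := fun p => scal b (p.2 : ℂˣ) * lf p.1
    refine Set.Finite.to_subtype ((Set.finite_range f).subset ?_)
    rintro u ⟨hur, x, hx, hux⟩
    obtain ⟨c, hc⟩ := (mk_eq_one_iff (u * (lf ⟨x, hx⟩)⁻¹)).mp (by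
      rw [QuotientGroup.mk_mul, QuotientGroup.mk_inv, hux, hlf' ⟨x, hx⟩, mul_inv_cancel])
    have hu : u = scal b c * lf ⟨x, hx⟩ := by rw [← hc, inv_mul_cancel_right]
    refine ⟨(⟨x, hx⟩, ⟨c, (mem_rootsOfUnity r c).mpr (hscal ?_)⟩), hu.symm⟩
    have h2 : lf ⟨x, hx⟩ ^ r = 1 := (hlf ⟨x, hx⟩).1
    rw [map_pow, map_one, ← hur, hu, (show Commute (scal b c) (lf ⟨x, hx⟩) from scal_comm _ _).mul_pow, h2,
      mul_one]
  letI : CommGroup Γ :=
    { (inferInstance : Group Γ) with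
      mul_comm := fun u v => Subtype.ext (by
        obtain ⟨hu, x, hx, hux⟩ := u.2
        obtain ⟨-, y, hy, hvy⟩ := v.2
        exact hcommute u v x hx y hy hux hvy hu) }
  haveI : Fintype Γ := Fintype.ofFinite _
  obtain ⟨dual⟩ := CommGroup.monoidHom_mulEquiv_of_hasEnoughRootsOfUnity Γ ℂ
  haveI : Finite (Γ →* ℂˣ) := Finite.of_equiv Γ dual.symm.toEquiv
  haveI : Fintype (Γ →* ℂˣ) := Fintype.ofFinite _
  have hG0 : (Fintype.card Γ : ℂ) ≠ 0 := Nat.cast_ne_zero.mpr Fintype.card_ne_zero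
  let π : (Γ →* ℂˣ) → Matrix (Fin b) (Fin b) ℂ := fun l =>
    (Fintype.card Γ : ℂ)⁻¹ • ∑ x : Γ, ((l x)⁻¹ : ℂˣ).val • ((x : GLb b) : Matrix (Fin b) (Fin b) ℂ)
  have hπmul : ∀ (x : Γ) l, ((x : GLb b) : Matrix (Fin b) (Fin b) ℂ) * π l = ((l x : ℂˣ) : ℂ) • π l := by
    intro x l
    simp only [π, mul_smul_comm, Finset.mul_sum, Finset.smul_sum]
    refine Fintype.sum_equiv (Equiv.mulLeft x) _ _ fun y => ?_
    simp only [Equiv.coe_mulLeft, map_mul, mul_inv, Subgroup.coe_mul, Units.val_mul, smul_smul]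
    congr 1
    rw [← mul_assoc (Fintype.card Γ : ℂ)⁻¹]
    field_simp
    simp
  have horth : ∀ l l', π l' * π l = if l = l' then π l else 0 := by
    intro l l'
    conv_lhs => rw [show π l' = (Fintype.card Γ : ℂ)⁻¹ • ∑ x : Γ, ((l' x)⁻¹ : ℂˣ).val • ((x : GLb b) : Matrix (Fin b) (Fin b) ℂ) from rfl]
    rw [smul_mul_assoc, Finset.sum_mul, Finset.sum_congr rfl fun x _ => by rw [smul_mul_assoc, hπmul, smul_smul],
      ← Finset.sum_smul, smul_smul]
    by_cases h : l = l'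
    · subst h
      rw [if_pos rfl, Finset.sum_congr rfl fun x _ => Units.inv_mul (l x), Finset.sum_const, Finset.card_univ,
        nsmul_eq_mul, mul_one, inv_mul_cancel₀ hG0, one_smul]
    · obtain ⟨x₁, hx₁⟩ : ∃ x, l x ≠ l' x := not_forall.mp fun hh => h (MonoidHom.ext hh)
      rw [if_neg h]
      set S := ∑ x : Γ, ((l' x)⁻¹ : ℂˣ).val * (l x : ℂ) with hS
      have hS0 : S = 0 := by
        have h1 : (((l' x₁)⁻¹ : ℂˣ).val * (l x₁ : ℂ)) * S = S := by
          rw [hS, Finset.mul_sum]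
          refine Fintype.sum_equiv (Equiv.mulLeft x₁) _ _ fun y => ?_
          simp only [Equiv.coe_mulLeft, map_mul, mul_inv, Units.val_mul]
          ring
        have h2 : ((l' x₁)⁻¹ : ℂˣ).val * (l x₁ : ℂ) ≠ 1 := fun hh => hx₁ (by
          have h3 : (l' x₁)⁻¹ * l x₁ = 1 := Units.ext (by rw [Units.val_mul, hh, Units.val_one])
          exact (inv_mul_eq_one.mp h3).symm)
        have h4 : (((l' x₁)⁻¹ : ℂˣ).val * (l x₁ : ℂ) - 1) * S = 0 := by rw [sub_mul, one_mul, h1, sub_self]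
        exact (mul_eq_zero.mp h4).resolve_left (sub_ne_zero.mpr h2)
      rw [hS0, mul_zero, zero_smul]
  have hsum : ∑ l, π l = 1 := by
    have hcard : Fintype.card (Γ →* ℂˣ) = Fintype.card Γ := Fintype.card_congr dual.toEquiv
    simp only [π, ← Finset.smul_sum]
    rw [Finset.sum_comm, Finset.sum_eq_single (1 : Γ)]
    · simp [← Finset.sum_smul, Finset.card_univ, hcard, smul_smul, inv_mul_cancel₀ hG0]
      rw [show (Fintype.card Γ : Matrix (Fin b) (Fin b) ℂ) = (Fintype.card Γ : ℂ) • 1 by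
        rw [Nat.cast_smul_eq_nsmul, nsmul_one], smul_smul, inv_mul_cancel₀ hG0, one_smul]
    · intro x _ hx
      rw [← Finset.sum_smul]
      obtain ⟨m, hm⟩ := CommGroup.exists_apply_ne_one_of_hasEnoughRootsOfUnity Γ ℂ hx
      set S := ∑ l : Γ →* ℂˣ, ((l x)⁻¹ : ℂˣ).val with hS
      have h1 : ((m x)⁻¹ : ℂˣ).val * S = S := by
        rw [hS, Finset.mul_sum]
        refine Fintype.sum_equiv (Equiv.mulLeft m) _ _ fun l => ?_
        simp only [Equiv.coe_mulLeft, MonoidHom.mul_apply, mul_inv, Units.val_mul]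
      have h2 : ((m x)⁻¹ : ℂˣ).val ≠ 1 := fun hh => hm (inv_eq_one.mp (Units.ext hh))
      have h4 : (((m x)⁻¹ : ℂˣ).val - 1) * S = 0 := by rw [sub_mul, one_mul, h1, sub_self]
      rw [(mul_eq_zero.mp h4).resolve_left (sub_ne_zero.mpr h2), zero_smul]
    · intro h; exact absurd (Finset.mem_univ _) h
  let Λ := {l : Γ →* ℂˣ // π l ≠ 0}
  -- move the index type to `Type`
  obtain ⟨k, ⟨eΛ⟩⟩ := Finite.exists_equiv_fin Λ
  refine ⟨Fin k, inferInstance, fun i => π (eΛ.symm i).1, ?_, fun i => (eΛ.symm i).2, fun i => by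
    rw [horth, if_pos rfl], fun i j hij => by
    rw [horth, if_neg]
    exact fun h => hij (eΛ.symm.injective (Subtype.ext h.symm)), ?_, ?_⟩
  · -- two different weights
    by_contra hnt
    rw [not_nontrivial_iff_subsingleton] at hnt
    haveI : Subsingleton Λ := eΛ.subsingleton
    obtain ⟨u, hu, hux⟩ := hlift x₀ hx₀
    apply hJx₀
    rw [← hux, mk_eq_one_iff]
    obtain ⟨l, -, hl⟩ := Finset.exists_ne_zero_of_sum_ne_zero (f := π) (s := Finset.univ)
      (by rw [hsum]; exact one_ne_zero)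
    have hall : π l = 1 := by
      rw [← hsum, Finset.sum_eq_single l]
      · intro m _ hm
        by_contra hm0
        exact hm (congrArg Subtype.val (Subsingleton.elim (⟨m, hm0⟩ : Λ) ⟨l, hl⟩))
      · intro h; exact absurd (Finset.mem_univ _) h
    refine ⟨l ⟨u, hu⟩, Units.ext ?_⟩
    rw [scal_val]
    have := hπmul ⟨u, hu⟩ l
    rwa [hall, mul_one] at this
  · rw [Fintype.sum_equiv eΛ.symm (fun i => π (eΛ.symm i).1) (fun l : Λ => π l.1) fun _ => rfl]
    rw [← hsum]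
    calc ∑ l : Λ, π l.1 = ∑ l ∈ Finset.univ.filter (fun l => π l ≠ 0), π l :=
          (Finset.sum_subtype (p := fun l => π l ≠ 0) _ (fun l => by simp) π).symm
      _ = ∑ l, π l := Finset.sum_filter_ne_zero _
  · intro h w hw hnorm i
    set l := (eΛ.symm i).1
    have hinvD : ∀ x ∈ D, h⁻¹ * x * h ∈ D := by
      intro x hx
      have hsur : Function.Surjective (fun y : D => (⟨h * y * h⁻¹, hnorm y y.2⟩ : D)) :=
        Finite.injective_iff_surjective.mp fun a b hab => Subtype.ext (by simpa using congrArg Subtype.val hab)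
      obtain ⟨y, hy⟩ := hsur ⟨x, hx⟩
      have hy' : h * (y : G) * h⁻¹ = x := congrArg Subtype.val hy
      rw [← hy']
      simpa [mul_assoc] using y.2
    have hmem : ∀ x : Γ, w⁻¹ * (x : GLb b) * w ∈ Γ := by
      intro x
      obtain ⟨hx, y, hy, hxy⟩ := x.2
      refine ⟨?_, h⁻¹ * y * h, hinvD y hy, ?_⟩
      · have h6 := conj_pow (i := r) (a := w⁻¹) (b := (x : GLb b))
        rw [inv_inv] at h6
        rw [h6, hx, mul_one, inv_mul_cancel]
      · rw [QuotientGroup.mk_mul, QuotientGroup.mk_mul, QuotientGroup.mk_inv, hw, hxy, map_mul, map_mul, map_inv]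
    let conjw : Γ →* Γ :=
      { toFun := fun x => ⟨w⁻¹ * (x : GLb b) * w, hmem x⟩
        map_one' := Subtype.ext (by simp)
        map_mul' := fun x y => Subtype.ext (by simp [mul_assoc]) }
    set l' := l.comp conjw with hl'
    have key : (w : Matrix (Fin b) (Fin b) ℂ) * π l = π l' * w := by
      simp only [π, mul_smul_comm, smul_mul_assoc, Finset.mul_sum, Finset.sum_mul]
      congr 1
      have hbij : Function.Bijective conjw := by
        refine Finite.injective_iff_bijective.mp fun a c hac => Subtype.ext ?_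
        have : w⁻¹ * (a : GLb b) * w = w⁻¹ * (c : GLb b) * w := congrArg Subtype.val hac
        exact mul_left_cancel (mul_right_cancel this)
      refine (Fintype.sum_bijective conjw hbij _ _ fun x => ?_).symm
      show ((l (conjw x))⁻¹ : ℂˣ).val • _ = ((l (conjw x))⁻¹ : ℂˣ).val • _
      rw [← Units.val_mul, ← Units.val_mul]
      show _ = ((l (conjw x))⁻¹ : ℂˣ).val • ((w * (w⁻¹ * (x : GLb b) * w) : GLb b) : Matrix (Fin b) (Fin b) ℂ)
      rw [← mul_assoc, mul_inv_cancel_left]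
    have hl0 : π l' ≠ 0 := by
      intro h0
      rw [h0, zero_mul] at key
      exact (eΛ.symm i).2 (by
        have := congrArg (fun m => ((w⁻¹ : GLb b) : Matrix (Fin b) (Fin b) ℂ) * m) key
        simpa [← mul_assoc] using this)
    refine ⟨eΛ ⟨l', hl0⟩, ?_⟩
    simp only [Equiv.symm_apply_apply]
    exact key

end Cfsg.Agent.Berger
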