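/-
Isotypic representations as powers of an irreducible one, and their commutant.

Main definitions and results (namespace `Cfsg.Agent.Berger`):
* `diag ι` : `T ↦ (v ↦ T ∘ v)`, the diagonal operator on `ι → W`
* `kron W` : `Matrix ι ι ℂ →ₐ[ℂ] End (ι → W)`, `A ↦ A ⊗ 1`
* `exists_pi_equiv` : a representation with character `f • θ` is equivalent to `θ ^ f`
* `exists_kron_of_commute` : the commutant of `θ ^ ι` is the image of `kron`
* `exists_twist`, `twist_unique` : intertwiners of an invariant irreducible representation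
-/
import Cfsg.Agent.Lib.Char.Orth
import Cfsg.Agent.Lib.CharApp.Schur

set_option autoImplicit false

namespace Cfsg.Agent.Berger

open Module

variable (ι : Type*) [Fintype ι] [DecidableEq ι]

/-- The diagonal operator. -/
def diag {W : Type*} [AddCommGroup W] [Module ℂ W] : Module.End ℂ W →* Module.End ℂ (ι → W) where
  toFun T := LinearMap.pi fun i => T ∘ₗ LinearMap.proj i
  map_one' := rfl
  map_mul' _ _ := rfl

variable {ι}

variable {W : Type*} [AddCommGroup W] [Module ℂ W]

omit [Fintype ι] [DecidableEq ι] in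
lemma diag_apply (T : Module.End ℂ W) (v : ι → W) (i : ι) : diag ι T v i = T (v i) := rfl

variable (W) in
/-- `A ↦ A ⊗ 1`. -/
def kron : Matrix ι ι ℂ →ₐ[ℂ] Module.End ℂ (ι → W) :=
  AlgHom.ofLinearMap
    { toFun := fun A => LinearMap.pi fun i => ∑ j, A i j • LinearMap.proj j
      map_add' := fun A B => by ext v i; simp [add_smul, Finset.sum_add_distrib]
      map_smul' := fun c A => by ext v i; simp [smul_smul, Finset.smul_sum] }
    (LinearMap.ext fun v => funext fun i => by simp [Matrix.one_apply, ite_smul])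
    (fun A B => LinearMap.ext fun v => funext fun i => by
      simp only [LinearMap.coe_mk, AddHom.coe_mk, LinearMap.pi_apply, LinearMap.coe_sum,
        Finset.sum_apply, LinearMap.smul_apply, LinearMap.coe_proj, Function.eval_apply,
        Module.End.mul_apply, Matrix.mul_apply, Finset.sum_smul, Finset.smul_sum, smul_smul]
      exact Finset.sum_comm)

lemma kron_apply (A : Matrix ι ι ℂ) (v : ι → W) (i : ι) : kron W A v i = ∑ j, A i j • v j := by
  simp [kron]

lemma kron_comm_diag (A : Matrix ι ι ℂ) (T : Module.End ℂ W) :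
    kron W A * diag ι T = diag ι T * kron W A := by
  ext v i
  simp [kron_apply, diag_apply]

lemma kron_injective [Nontrivial W] : Function.Injective (kron (ι := ι) W) := by
  intro A B h
  obtain ⟨w, hw⟩ := exists_ne (0 : W)
  ext i j
  have := congrFun (LinearMap.congr_fun h (Pi.single j w)) i
  simp only [kron_apply, Pi.single_apply, smul_ite, smul_zero, Finset.sum_ite_eq', Finset.mem_univ,
    if_true] at this
  exact smul_left_injective ℂ hw this

variable {N : Type*} [Group N]

variable (ι) in
/-- The representation `θ ^ ι`. -/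
def powRep (θ : Representation ℂ N W) : Representation ℂ N (ι → W) := (diag ι).comp θ

omit [Fintype ι] [DecidableEq ι] in
lemma powRep_apply (θ : Representation ℂ N W) (x : N) (v : ι → W) (i : ι) :
    powRep ι θ x v i = θ x (v i) := rfl

lemma powRep_character [FiniteDimensional ℂ W] (θ : Representation ℂ N W) (x : N) :
    (powRep ι θ).character x = (Fintype.card ι : ℂ) * θ.character x := by
  show LinearMap.trace ℂ _ (diag ι (θ x)) = _ * LinearMap.trace ℂ _ (θ x)
  have : diag ι (θ x) = ∑ i : ι, (LinearMap.single ℂ (fun _ : ι => W) i) ∘ₗ (θ x ∘ₗ LinearMap.proj i) := by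
    ext v i
    simp [diag_apply, Pi.single_apply, eq_comm]
  rw [this, map_sum, Finset.sum_congr rfl fun i _ => ?_, Finset.sum_const, Finset.card_univ, nsmul_eq_mul]
  rw [LinearMap.trace_comp_comm']
  congr 1
  ext w
  simp

/-- An isotypic representation is a power of the irreducible one. -/
theorem exists_pi_equiv {N : Type*} [Group N] [Finite N] {V W : Type*} [AddCommGroup V] [Module ℂ V]
    [FiniteDimensional ℂ V] [AddCommGroup W] [Module ℂ W] [FiniteDimensional ℂ W]
    (θ : Representation ℂ N W) (σ : Representation ℂ N V) (f : ℕ)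
    (h : ∀ x, σ.character x = (f : ℂ) * θ.character x) :
    ∃ e : V ≃ₗ[ℂ] (Fin f → W), ∀ x v i, e (σ x v) i = θ x (e v i) := by
  obtain ⟨E⟩ := Char.equiv_of_character_eq σ (powRep (Fin f) θ)
    (funext fun x => by rw [powRep_character, h, Fintype.card_fin])
  refine ⟨E.toLinearEquiv, fun x v i => ?_⟩
  exact congrFun (E.toIntertwiningMap.isIntertwining _ _ x v) i

/-- The commutant of a power of an irreducible representation. -/
theorem exists_kron_of_commute [FiniteDimensional ℂ W] (θ : Representation ℂ N W) [θ.IsIrreducible]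
    (P : Module.End ℂ (ι → W)) (hP : ∀ x, P * diag ι (θ x) = diag ι (θ x) * P) :
    ∃ A : Matrix ι ι ℂ, P = kron W A := by
  have h : ∀ i j, ∃ a : ℂ, (LinearMap.proj i : (ι → W) →ₗ[ℂ] W) ∘ₗ P ∘ₗ LinearMap.single ℂ (fun _ => W) j
      = a • 1 := by
    intro i j
    refine CharApp.exists_scalar_of_commute θ _ fun x => LinearMap.ext fun w => ?_
    simp only [Module.End.mul_apply, LinearMap.coe_comp, Function.comp_apply, LinearMap.coe_single,
      LinearMap.coe_proj, Function.eval_apply]
    have h2 : Pi.single (M := fun _ : ι => W) j (θ x w) = diag ι (θ x) (Pi.single j w) := by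
      ext k
      by_cases hk : k = j
      · subst hk; simp [diag_apply]
      · simp [diag_apply, hk]
    rw [h2, ← Module.End.mul_apply, hP, Module.End.mul_apply]
    rfl
  choose a ha using h
  refine ⟨Matrix.of a, LinearMap.ext fun v => funext fun i => ?_⟩
  rw [kron_apply]
  conv_lhs => rw [← Finset.univ_sum_single v, map_sum, Finset.sum_apply]
  refine Finset.sum_congr rfl fun j _ => ?_
  have := LinearMap.congr_fun (ha i j) (v j)
  simpa using this

/-- Intertwiners exist for invariant representations. -/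
theorem exists_twist {G : Type*} [Group G] [Finite G] (M : Subgroup G) [hM : M.Normal] {V : Type*}
    [AddCommGroup V] [Module ℂ V] [FiniteDimensional ℂ V] (τ : Representation ℂ M V)
    (hinv : ∀ (g : G) (x : M), τ.character ⟨g * x * g⁻¹, hM.conj_mem x x.2 g⟩ = τ.character x) (g : G) :
    ∃ T : (Module.End ℂ V)ˣ, ∀ x : M,
      (T : Module.End ℂ V) * τ x = τ ⟨g * x * g⁻¹, hM.conj_mem x x.2 g⟩ * T := by
  let τg : Representation ℂ M V := τ.comp
    { toFun := fun x => ⟨g * x * g⁻¹, hM.conj_mem x x.2 g⟩
      map_one' := by ext; simp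
      map_mul' := fun x y => by ext; simp [mul_assoc] }
  obtain ⟨e⟩ := Char.equiv_of_character_eq τ τg (funext fun x => (hinv g x).symm)
  refine ⟨⟨e.toLinearEquiv.toLinearMap, e.toLinearEquiv.symm.toLinearMap,
    LinearMap.ext fun v => e.toLinearEquiv.apply_symm_apply v,
    LinearMap.ext fun v => e.toLinearEquiv.symm_apply_apply v⟩, fun x => ?_⟩
  exact e.toIntertwiningMap.isIntertwining' x

/-- Schur: intertwiners are unique up to a scalar. -/
theorem twist_unique {G : Type*} [Group G] (M : Subgroup G) [hM : M.Normal] {V : Type*}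
    [AddCommGroup V] [Module ℂ V] [FiniteDimensional ℂ V] (τ : Representation ℂ M V) [τ.IsIrreducible]
    (g : G) (S T : (Module.End ℂ V)ˣ)
    (hS : ∀ x : M, (S : Module.End ℂ V) * τ x = τ ⟨g * x * g⁻¹, hM.conj_mem x x.2 g⟩ * S)
    (hT : ∀ x : M, (T : Module.End ℂ V) * τ x = τ ⟨g * x * g⁻¹, hM.conj_mem x x.2 g⟩ * T) :
    ∃ c : ℂ, c ≠ 0 ∧ (S : Module.End ℂ V) = c • (T : Module.End ℂ V) := by
  obtain ⟨a, ha⟩ := CharApp.exists_scalar_of_commute τ ((T⁻¹ : (Module.End ℂ V)ˣ) * S : Module.End ℂ V)
    (fun x => by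
      have h1 := hS x
      have h2 := hT x
      generalize τ ⟨g * x * g⁻¹, hM.conj_mem x x.2 g⟩ = R at h1 h2
      have h3 : τ x = ((T⁻¹ : (Module.End ℂ V)ˣ) : Module.End ℂ V) * (R * T) := by
        rw [← h2, ← mul_assoc, Units.inv_mul, one_mul]
      rw [mul_assoc, h1, h3]
      simp only [mul_assoc]
      rw [← mul_assoc (T : Module.End ℂ V) ((T⁻¹ : (Module.End ℂ V)ˣ) : Module.End ℂ V) (S : Module.End ℂ V), Units.mul_inv, one_mul])
  refine ⟨a, ?_, ?_⟩
  · rintro rfl
    haveI : Nontrivial V := CharApp.nontrivial_of_irr τ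
    rw [zero_smul] at ha
    exact (T⁻¹ * S).ne_zero (by rw [Units.val_mul]; exact ha)
  · calc (S : Module.End ℂ V) = (T : Module.End ℂ V) * (((T⁻¹ : (Module.End ℂ V)ˣ) : Module.End ℂ V) * S) := by
          rw [← mul_assoc, Units.mul_inv, one_mul]
      _ = a • (T : Module.End ℂ V) := by rw [ha, mul_smul_comm, mul_one]

end Cfsg.Agent.Berger
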