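/-
Berger's theorem: quasiprimitive irreducible representations of solvable groups are primitive,
relative to a normal subgroup.

Main results (namespace `Cfsg.Agent.Berger`): `no_block`, `no_induction`.
-/
import Cfsg.Agent.Lib.Berger.Isotypic
import Cfsg.Agent.Lib.Berger.Idempotents
import Cfsg.Agent.Lib.Berger.Blocks
import Cfsg.Agent.Lib.Solvable.Basic
import Cfsg.Agent.Lib.Char.Induced

set_option autoImplicit false

namespace Cfsg.Agent.Berger

open Module Cfsg Cfsg.Agent.Char
open scoped commutatorElement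

/-- A chief factor above a normal subgroup with solvable quotient. -/
theorem exists_chief {G : Type*} [Group G] [Finite G] (N : Subgroup G) [N.Normal]
    (hsolv : Group.IsSolvable (G ⧸ N)) (hN : N ≠ ⊤) :
    ∃ (M : Subgroup G) (q : ℕ), M.Normal ∧ N ≤ M ∧ M ≠ N ∧ q.Prime ∧ (∀ x ∈ M, x ^ q ∈ N) ∧
      (∀ x ∈ M, ∀ y ∈ M, x * y * x⁻¹ * y⁻¹ ∈ N) ∧
      ∀ K : Subgroup G, K.Normal → N ≤ K → K ≤ M → K = N ∨ K = M := by
  have hsurj := QuotientGroup.mk'_surjective N
  have htop : (⊤ : Subgroup (G ⧸ N)) ≠ ⊥ := by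
    intro h
    refine hN (eq_top_iff.mpr fun x _ => ?_)
    rw [← QuotientGroup.eq_one_iff, ← Subgroup.mem_bot, ← h]
    trivial
  obtain ⟨q, hq, M', hM'n, hM'0, -, hM'c, -, hM'e, hmin⟩ :=
    Solvable.exists_minimal_normal_pGroup (N := (⊤ : Subgroup (G ⧸ N))) htop
  have hNM : N ≤ M'.comap (QuotientGroup.mk' N) := by
    intro x hx
    rw [Subgroup.mem_comap, QuotientGroup.mk'_apply, (QuotientGroup.eq_one_iff x).mpr hx]
    exact one_mem _
  refine ⟨M'.comap (QuotientGroup.mk' N), q, hM'n.comap _, hNM, ?_, hq, ?_, ?_, ?_⟩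
  · intro h
    apply hM'0
    rw [← Subgroup.map_comap_eq_self_of_surjective hsurj M', h, Subgroup.map_eq_bot_iff,
      QuotientGroup.ker_mk']
  · intro x hx
    rw [← QuotientGroup.eq_one_iff, QuotientGroup.mk_pow]
    exact hM'e _ hx
  · intro x hx y hy
    rw [← QuotientGroup.eq_one_iff, QuotientGroup.mk_mul, QuotientGroup.mk_mul, QuotientGroup.mk_mul,
      QuotientGroup.mk_inv, QuotientGroup.mk_inv, mul_inv_eq_one, mul_inv_eq_iff_eq_mul]
    exact congrArg Subtype.val (hM'c.is_comm.comm ⟨_, hx⟩ ⟨_, hy⟩)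
  · intro K hK hNK hKM
    have hle : K.map (QuotientGroup.mk' N) ≤ M' := Subgroup.map_le_iff_le_comap.mpr hKM
    have hcm : (K.map (QuotientGroup.mk' N)).comap (QuotientGroup.mk' N) = K := by
      rw [Subgroup.comap_map_eq, QuotientGroup.ker_mk', sup_of_le_left hNK]
    rcases hmin _ (hK.map _ hsurj) hle with h | h
    · left; rw [← hcm, h, MonoidHom.comap_bot, QuotientGroup.ker_mk']
    · right; rw [← hcm, h]

/-- The index in a chief factor is a prime power different from one. -/
theorem relIndex_eq_pow {G : Type*} [Group G] [Finite G] (N M : Subgroup G) [N.Normal] (hNM : N ≤ M)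
    (hne : M ≠ N) {q : ℕ} (hq : q.Prime) (hexp : ∀ x ∈ M, x ^ q ∈ N) :
    ∃ i, N.relIndex M = q ^ (i + 1) := by
  haveI := Fact.mk hq
  have hp : IsPGroup q (M ⧸ N.subgroupOf M) := by
    intro x
    obtain ⟨y, rfl⟩ := QuotientGroup.mk_surjective x
    refine ⟨1, ?_⟩
    rw [pow_one, ← QuotientGroup.mk_pow, QuotientGroup.eq_one_iff, Subgroup.mem_subgroupOf, Subgroup.coe_pow]
    exact hexp y y.2
  obtain ⟨i, hi⟩ := IsPGroup.iff_card.mp hp
  rw [← Subgroup.index_eq_card] at hi
  rcases i with _ | i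
  · exfalso
    rw [pow_zero] at hi
    exact hne (le_antisymm (Subgroup.relIndex_eq_one.mp hi) hNM)
  · exact ⟨i, hi⟩

/-- A chief factor and the next one with the same prime: the first is central in both. -/
theorem commute_of_same_prime {G : Type*} [Group G] [Finite G] (N M K : Subgroup G) [N.Normal] [M.Normal]
    [K.Normal] (hNM : N ≤ M) (hne : M ≠ N) {q : ℕ} (hq : q.Prime)
    (hexp : ∀ x ∈ M, x ^ q ∈ N) (hexpK : ∀ x ∈ K, x ^ q ∈ M)
    (hmin : ∀ L : Subgroup G, L.Normal → N ≤ L → L ≤ M → L = N ∨ L = M) :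
    ∀ m ∈ M, ∀ k ∈ K, k * m * k⁻¹ * m⁻¹ ∈ N := by
  haveI := Fact.mk hq
  set π := QuotientGroup.mk' N with hπ
  have hsurj := QuotientGroup.mk'_surjective N
  haveI hKn : (K.map π).Normal := Subgroup.Normal.map inferInstance π hsurj
  haveI hMn : (M.map π).Normal := Subgroup.Normal.map inferInstance π hsurj
  letI : MulDistribMulAction (K.map π) (M.map π) :=
    MulDistribMulAction.compHom (M.map π) ((MulAut.conjNormal (H := M.map π)).comp (K.map π).subtype)
  have hPK : IsPGroup q (K.map π) := by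
    rintro ⟨_, x, hx, rfl⟩
    refine ⟨2, Subtype.ext ?_⟩
    rw [Subgroup.coe_pow, Subgroup.coe_one, ← map_pow, hπ, QuotientGroup.mk'_apply, QuotientGroup.eq_one_iff,
      pow_two, pow_mul]
    exact hexp _ (hexpK x hx)
  have hPM : IsPGroup q (M.map π) := by
    rintro ⟨_, x, hx, rfl⟩
    refine ⟨1, Subtype.ext ?_⟩
    rw [Subgroup.coe_pow, Subgroup.coe_one, ← map_pow, hπ, QuotientGroup.mk'_apply, QuotientGroup.eq_one_iff,
      pow_one]
    exact hexp x hx
  haveI : Nontrivial (M.map π) := by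
    rw [Subgroup.nontrivial_iff_ne_bot]
    intro h
    rw [Subgroup.map_eq_bot_iff, hπ, QuotientGroup.ker_mk'] at h
    exact hne (le_antisymm h hNM)
  have hdvd : q ∣ Nat.card (M.map π) := by
    obtain ⟨i, hi⟩ := IsPGroup.iff_card.mp hPM
    rcases i with _ | i
    · exact absurd (by rwa [pow_zero] at hi) (Finite.one_lt_card (α := M.map π)).ne'
    · rw [hi]; exact dvd_pow_self q (Nat.succ_ne_zero i)
  obtain ⟨z, hz, hz1⟩ := hPK.exists_fixed_point_of_prime_dvd_card_of_fixed_point (M.map π) hdvd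
    (a := (1 : M.map π)) (fun g => smul_one g)
  obtain ⟨m₀, hm₀, hm₀z⟩ := z.2
  have hcl : ∀ (m k : G), π k * π m = π m * π k ↔ k * m * k⁻¹ * m⁻¹ ∈ N := by
    intro m k
    rw [← QuotientGroup.eq_one_iff, ← QuotientGroup.mk'_apply, map_mul, map_mul, map_mul, map_inv, map_inv,
      mul_inv_eq_one, mul_inv_eq_iff_eq_mul]
  let L : Subgroup G := M ⊓ (Subgroup.centralizer ((K.map π : Subgroup (G ⧸ N)) : Set (G ⧸ N))).comap π
  have hLn : L.Normal := by
    refine ⟨fun x hx g => ⟨Subgroup.Normal.conj_mem inferInstance x hx.1 g, ?_⟩⟩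
    show π (g * x * g⁻¹) ∈ Subgroup.centralizer ((K.map π : Subgroup (G ⧸ N)) : Set (G ⧸ N))
    rw [Subgroup.mem_centralizer_iff]
    intro y hy
    have hy' : (π g)⁻¹ * y * π g ∈ K.map π := by
      simpa using hKn.conj_mem y hy (π g)⁻¹
    have h1 := Subgroup.mem_centralizer_iff.mp hx.2 _ hy'
    rw [map_mul, map_mul, map_inv]
    calc y * (π g * π x * (π g)⁻¹) = π g * ((π g)⁻¹ * y * π g * π x) * (π g)⁻¹ := by group
      _ = π g * (π x * ((π g)⁻¹ * y * π g)) * (π g)⁻¹ := by rw [h1]
      _ = π g * π x * (π g)⁻¹ * y := by group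
  have hNL : N ≤ L := fun x hx => ⟨hNM hx, by
    show π x ∈ Subgroup.centralizer ((K.map π : Subgroup (G ⧸ N)) : Set (G ⧸ N))
    rw [show π x = 1 from (QuotientGroup.eq_one_iff x).mpr hx]
    exact one_mem _⟩
  have hL : L = M := by
    refine (hmin L hLn hNL inf_le_left).resolve_left fun h => ?_
    have hmem : m₀ ∈ L := by
      refine ⟨hm₀, ?_⟩
      show π m₀ ∈ Subgroup.centralizer ((K.map π : Subgroup (G ⧸ N)) : Set (G ⧸ N))
      rw [Subgroup.mem_centralizer_iff]
      intro y hy
      have h1 : y * (z : G ⧸ N) * y⁻¹ = (z : G ⧸ N) := congrArg Subtype.val (hz ⟨y, hy⟩)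
      rw [hm₀z]
      exact mul_inv_eq_iff_eq_mul.mp h1
    rw [h] at hmem
    apply hz1
    refine Subtype.ext ?_
    rw [Subgroup.coe_one, ← hm₀z, hπ, QuotientGroup.mk'_apply, (QuotientGroup.eq_one_iff m₀).mpr hmem]
  intro m hm k hk
  rw [← hcl]
  have hm' : m ∈ L := hL.symm ▸ hm
  exact Subgroup.mem_centralizer_iff.mp hm'.2 (π k) ⟨k, hk, rfl⟩

/-- A subrepresentation of an isotypic representation is isotypic. -/
theorem isotypic_sub {G : Type*} [Group G] [Finite G] {V : Type*} [AddCommGroup V] [Module ℂ V]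
    [FiniteDimensional ℂ V] (σ : Representation ℂ G V) {φ : G → ℂ} (hφ : IsIrrCharacter G φ) (e : ℕ)
    (h : ∀ x, σ.character x = (e : ℂ) * φ x) (p : Subrepresentation σ) :
    ∃ f : ℕ, ∀ x, p.toRepresentation.character x = (f : ℂ) * φ x := by
  classical
  letI := Fintype.ofFinite G
  obtain ⟨q, hq⟩ := Char.exists_isCompl V σ p
  have hadd := Char.character_eq_add_of_isCompl σ hq
  have hp : IsCharacter G p.toRepresentation.character := Char.isCharacter_character _
  have hq' : IsCharacter G q.toRepresentation.character := Char.isCharacter_character _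
  obtain ⟨f, hf⟩ := IsCharacter.classInner_nat hp (IsIrrCharacter.isCharacter hφ)
  refine ⟨f, fun x => ?_⟩
  have hkey : p.toRepresentation.character = (f : ℂ) • φ := by
    refine classFunction_ext (IsCharacter.isClassFunction hp)
      (isClassFunction_smul (IsIrrCharacter.isClassFunction hφ) _) fun ψ => ?_
    rw [classInner_smul_left]
    by_cases hψ : φ = (ψ : G → ℂ)
    · rw [← hψ, classInner_irr_self hφ, mul_one, hf]
    · rw [classInner_irr_of_ne hφ ψ.2 hψ, mul_zero]
      obtain ⟨m₁, hm₁⟩ := IsCharacter.classInner_nat hp (IsIrrCharacter.isCharacter ψ.2)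
      obtain ⟨m₂, hm₂⟩ := IsCharacter.classInner_nat hq' (IsIrrCharacter.isCharacter ψ.2)
      have h0 : classInner σ.character (ψ : G → ℂ) = 0 := by
        rw [show σ.character = (e : ℂ) • φ from funext h, classInner_smul_left,
          classInner_irr_of_ne hφ ψ.2 hψ, mul_zero]
      rw [hadd, classInner_add_left, hm₁, hm₂, ← Nat.cast_add, Nat.cast_eq_zero] at h0
      rw [hm₁, show m₁ = 0 by omega, Nat.cast_zero]
  rw [hkey]; rfl

/-- Enlarging an invariant subspace to a bigger subgroup. -/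
theorem exists_enlarge {G : Type*} [Group G] [Finite G] {V : Type*} [AddCommGroup V] [Module ℂ V]
    [FiniteDimensional ℂ V] (ρ : Representation ℂ G V) (H H' : Subgroup G) (hHH' : H ≤ H')
    (X : Submodule ℂ V) (hX : ∀ h ∈ H, ∀ v ∈ X, ρ h v ∈ X) :
    ∃ X' : Submodule ℂ V, X ≤ X' ∧ (∀ h ∈ H', ∀ v ∈ X', ρ h v ∈ X') ∧
      finrank ℂ X' ≤ H.relIndex H' * finrank ℂ X := by
  classical
  haveI : Fintype (H' ⧸ H.subgroupOf H') := Fintype.ofFinite _
  let F : H' ⧸ H.subgroupOf H' → Submodule ℂ V := fun c => X.map (ρ (c.out : G))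
  have hmem : ∀ (x : H'), ∀ v ∈ X, ρ (x : G) v ∈ F (QuotientGroup.mk x) := by
    intro x v hv
    obtain ⟨h, hh⟩ := QuotientGroup.mk_out_eq_mul (H.subgroupOf H') x
    refine ⟨ρ ((h : H') : G)⁻¹ v, hX _ (inv_mem h.2) v hv, ?_⟩
    show ρ _ (ρ _ v) = _
    rw [hh, ← Module.End.mul_apply, ← map_mul]
    simp
  refine ⟨⨆ c, F c, fun v hv => ?_, fun h hh v hv => ?_, ?_⟩
  · refine Submodule.mem_iSup_of_mem _ (?_ : v ∈ F (QuotientGroup.mk 1))
    have := hmem 1 v hv
    simpa using this
  · induction hv using Submodule.iSup_induction' with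
    | mem c w hw =>
      obtain ⟨w', hw', rfl⟩ := hw
      refine Submodule.mem_iSup_of_mem (QuotientGroup.mk ((⟨h, hh⟩ : H') * c.out)) ?_
      have := hmem (⟨h, hh⟩ * c.out) w' hw'
      rwa [Subgroup.coe_mul, map_mul, Module.End.mul_apply] at this
    | zero => rw [map_zero]; exact zero_mem _
    | add w w' _ _ h1 h2 => rw [map_add]; exact add_mem h1 h2
  · have hle : ∀ s : Finset (H' ⧸ H.subgroupOf H'),
        finrank ℂ (s.sup F : Submodule ℂ V) ≤ ∑ c ∈ s, finrank ℂ (F c) := by
      intro s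
      induction s using Finset.induction with
      | empty => simp
      | insert c s hc ih =>
        rw [Finset.sup_insert, Finset.sum_insert hc]
        exact (Submodule.finrank_add_le_finrank_add_finrank _ _).trans (Nat.add_le_add_left ih _)
    have h1 := hle Finset.univ
    rw [Finset.sup_univ_eq_iSup] at h1
    refine h1.trans ?_
    refine (Finset.sum_le_sum (g := fun _ => finrank ℂ X) fun c _ => Submodule.finrank_map_le _ _).trans ?_
    rw [Finset.sum_const, Finset.card_univ, smul_eq_mul, ← Nat.card_eq_fintype_card, ← Subgroup.index_eq_card]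
    exact le_rfl

universe u

set_option maxHeartbeats 1600000 in
/-- The relative form of Berger's theorem. -/
theorem no_block : ∀ (k : ℕ) {G : Type u} [Group G] [Finite G] (N : Subgroup G) [N.Normal], N.index ≤ k →
    Group.IsSolvable (G ⧸ N) → ∀ {c : ℕ} (ρ : Representation ℂ G (Fin c → ℂ)) [ρ.IsIrreducible],
    (∀ M : Subgroup G, M.Normal → N ≤ M →
      ∃ (φ : M → ℂ) (e : ℕ), IsIrrCharacter M φ ∧ ∀ m : M, ρ.character m = (e : ℂ) * φ m) →
    ∀ H : Subgroup G, N ≤ H → H ≠ ⊤ → ∀ X : Submodule ℂ (Fin c → ℂ), X ≠ ⊥ →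
      (∀ h ∈ H, ∀ v ∈ X, ρ h v ∈ X) → finrank ℂ X * H.index ≤ c → False := by
  intro k
  induction k using Nat.strong_induction_on with
  | _ k ih =>
  intro G _ _ N _ hk hsolv c ρ hρ hhom H₁ hNH₁ hH₁ X₁ hX₁0 hX₁ hdim₁
  classical
  letI : Fintype G := Fintype.ofFinite G
  -- a maximal subgroup
  obtain ⟨H, hH, hH₁H⟩ : ∃ H : Subgroup G, IsCoatom H ∧ H₁ ≤ H :=
    (eq_top_or_exists_le_coatom H₁).resolve_left hH₁
  obtain ⟨X0, hXX0, hX0, hX0dim⟩ := exists_enlarge ρ H₁ H hH₁H X₁ hX₁
  have hX00 : X0 ≠ ⊥ := fun h => hX₁0 (le_bot_iff.mp (h ▸ hXX0))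
  have hdim : finrank ℂ X0 * H.index ≤ c := by
    refine le_trans ?_ hdim₁
    calc finrank ℂ X0 * H.index ≤ H₁.relIndex H * finrank ℂ X₁ * H.index := Nat.mul_le_mul_right _ hX0dim
      _ = finrank ℂ X₁ * (H₁.relIndex H * H.index) := by ring
      _ = finrank ℂ X₁ * H₁.index := by rw [Subgroup.relIndex_mul_index hH₁H]
  have hNH : N ≤ H := hNH₁.trans hH₁H
  have hirr : ∀ Y : Submodule ℂ (Fin c → ℂ), (∀ g, ∀ v ∈ Y, ρ g v ∈ Y) → Y = ⊥ ∨ Y = ⊤ :=
    fun Y hY => CharApp.eq_bot_or_top_of_invariant ρ Y hY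
  have hspan : c ≤ finrank ℂ X0 * H.index := by
    obtain ⟨Y, hY1, hY2, hY3⟩ := exists_enlarge ρ H ⊤ le_top X0 hX0
    have hYtop : Y = ⊤ := (hirr Y fun g v hv => hY2 g (Subgroup.mem_top g) v hv).resolve_left
      fun h => hX00 (le_bot_iff.mp (h ▸ hY1))
    rw [hYtop, finrank_top, Module.finrank_fin_fun, Subgroup.relIndex_top_right, mul_comm] at hY3
    exact hY3
  -- recursion to larger normal subgroups
  have hrec : ∀ M : Subgroup G, M.Normal → N ≤ M → M ≠ N → ∀ H' : Subgroup G, M ≤ H' → H' ≠ ⊤ →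
      ∀ X : Submodule ℂ (Fin c → ℂ), X ≠ ⊥ → (∀ h ∈ H', ∀ v ∈ X, ρ h v ∈ X) →
        finrank ℂ X * H'.index ≤ c → False := by
    intro M hMn hNM hne
    haveI := hMn
    have hlt : M.index < k := lt_of_lt_of_le (Subgroup.index_strictAnti (lt_of_le_of_ne hNM (Ne.symm hne))) hk
    have hsolvM : Group.IsSolvable (G ⧸ M) :=
      Group.isSolvable_of_surjective (f := QuotientGroup.map N M (MonoidHom.id G) hNM) fun x => by
        obtain ⟨g, rfl⟩ := QuotientGroup.mk_surjective x
        exact ⟨QuotientGroup.mk g, rfl⟩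
    exact ih M.index hlt M le_rfl hsolvM ρ (fun M' h1 h2 => hhom M' h1 (hNM.trans h2))
  -- `N` is the core of `H`
  have hcore : ∀ L : Subgroup G, L.Normal → N ≤ L → L ≤ H → L = N := by
    intro L hL hNL hLH
    by_contra hne
    exact hrec L hL hNL hne H hLH hH.1 X0 hX00 hX0 hdim
  have hNtop : N ≠ ⊤ := fun h => hH.1 (top_le_iff.mp (h ▸ hNH))
  obtain ⟨M, q, hMn, hNM, hMne, hq, hMexp, hMcomm, hMmin⟩ := exists_chief N hsolv hNtop
  haveI := hMn
  haveI := Fact.mk hq
  have hMH : ¬ M ≤ H := fun h => hMne (hcore M hMn hNM h)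
  have hsup : M ⊔ H = ⊤ := hH.2 _ (lt_of_le_of_ne le_sup_right fun h => hMH (h ▸ le_sup_left))
  have hfac : ∀ g : G, ∃ m ∈ M, ∃ h ∈ H, g = m * h := fun g => by
    obtain ⟨m, hm, h, hh, he⟩ := Subgroup.mem_sup_of_normal_left.mp (hsup ▸ Subgroup.mem_top g : g ∈ M ⊔ H)
    exact ⟨m, hm, h, hh, he.symm⟩
  have hMinf : M ⊓ H = N := by
    refine hcore _ ⟨fun x hx g => ?_⟩ (le_inf hNM hNH) inf_le_right
    obtain ⟨m, hm, h, hh, rfl⟩ := hfac g
    have hx' : h * x * h⁻¹ ∈ M ⊓ H :=
      ⟨hMn.conj_mem x hx.1 h, H.mul_mem (H.mul_mem hh hx.2) (H.inv_mem hh)⟩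
    refine ⟨hMn.conj_mem x hx.1 _, ?_⟩
    rw [show m * h * x * (m * h)⁻¹
      = (m * (h * x * h⁻¹) * m⁻¹ * (h * x * h⁻¹)⁻¹) * (h * x * h⁻¹) by group]
    exact H.mul_mem (hNH (hMcomm m hm _ hx'.1)) hx'.2
  have hindex : H.index = N.relIndex M := by
    have h1 : N.relIndex M * M.index = N.index := Subgroup.relIndex_mul_index hNM
    have h2 : N.relIndex H * H.index = N.index := Subgroup.relIndex_mul_index hNH
    have h3 : N.relIndex H = M.index := by
      rw [← hMinf, Subgroup.inf_relIndex_right, ← Subgroup.relIndex_sup_left (K := M) (H := H), hsup,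
        Subgroup.relIndex_top_right]
    rw [h3, ← h1, mul_comm (N.relIndex M)] at h2
    exact mul_left_cancel₀ Subgroup.index_ne_zero_of_finite h2
  obtain ⟨i, hi⟩ := relIndex_eq_pow N M hNM hMne hq hMexp
  set n := H.index with hn
  have hn1 : 1 < n := by rw [hindex, hi]; exact Nat.one_lt_pow (Nat.succ_ne_zero i) hq.one_lt
  -- the constituents
  obtain ⟨_, e, ⟨dθ, θ, hθ, rfl⟩, hNhom⟩ := hhom N inferInstance le_rfl
  obtain ⟨_, a, ⟨dM, τ, hτ, rfl⟩, hMhom⟩ := hhom M hMn hNM
  haveI := hθ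
  haveI := hτ
  haveI : Nontrivial (Fin dθ → ℂ) := CharApp.nontrivial_of_irr θ
  haveI : Nontrivial (Fin c → ℂ) := CharApp.nontrivial_of_irr ρ
  have hc0 : 0 < c := by
    have := CharApp.finrank_pos_of_irr ρ
    rwa [Module.finrank_fin_fun] at this
  have hdθ : 0 < dθ := by
    have := CharApp.finrank_pos_of_irr θ
    rwa [Module.finrank_fin_fun] at this
  have hcθ : c = e * dθ := by
    have h := hNhom 1
    rw [OneMemClass.coe_one, Representation.char_one, Representation.char_one, Module.finrank_fin_fun,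
      Module.finrank_fin_fun] at h
    exact_mod_cast h
  have hcτ : c = a * dM := by
    have h := hMhom 1
    rw [OneMemClass.coe_one, Representation.char_one, Representation.char_one, Module.finrank_fin_fun,
      Module.finrank_fin_fun] at h
    exact_mod_cast h
  have ha0 : a ≠ 0 := fun h => by rw [h, zero_mul] at hcτ; omega
  have ha0' : (a : ℂ) ≠ 0 := Nat.cast_ne_zero.mpr ha0
  have hθirr : IsIrrCharacter N θ.character := isIrrCharacter_character θ
  -- restriction of τ to N
  obtain ⟨b, hb⟩ : ∃ b : ℕ, ∀ x : N, τ.character ⟨(x : G), hNM x.2⟩ = (b : ℂ) * θ.character x := by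
    letI : Fintype N := Fintype.ofFinite N
    have hτN : IsCharacter N (fun x : N => τ.character ⟨(x : G), hNM x.2⟩) :=
      IsCharacter.comp_hom (Char.isCharacter_character τ) (Subgroup.inclusion hNM)
    obtain ⟨b, hb⟩ := IsCharacter.classInner_nat hτN (IsIrrCharacter.isCharacter hθirr)
    refine ⟨b, fun x => ?_⟩
    have hre : (fun x : N => τ.character ⟨(x : G), hNM x.2⟩) = ((e : ℂ) / a) • θ.character := funext fun y => by
      have h1 := hMhom ⟨(y : G), hNM y.2⟩
      rw [hNhom y] at h1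
      rw [Pi.smul_apply, smul_eq_mul]
      field_simp
      linear_combination -h1
    rw [hre, classInner_smul_left, classInner_irr_self hθirr, mul_one] at hb
    rw [← hb]
    exact congrFun hre x
  have hdM : dM = b * dθ := by
    have h := hb 1
    rw [show (⟨((1 : N) : G), hNM (1 : N).2⟩ : M) = 1 from rfl, Representation.char_one, Representation.char_one,
      Module.finrank_fin_fun, Module.finrank_fin_fun] at h
    exact_mod_cast h
  have hab : a * b = e := by
    rw [hcτ, hdM, ← mul_assoc] at hcθ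
    exact Nat.eq_of_mul_eq_mul_right hdθ hcθ
  -- restriction of the block to N
  let σN : Representation ℂ N (Fin c → ℂ) := ρ.comp N.subtype
  let pX : Subrepresentation σN := ⟨X0, fun x v hv => hX0 x (hNH x.2) v hv⟩
  obtain ⟨f, hf⟩ := isotypic_sub σN hθirr e (fun x => hNhom x) pX
  have hXdim : finrank ℂ X0 = f * dθ := by
    have h := hf 1
    rw [Representation.char_one, Representation.char_one, Module.finrank_fin_fun] at h
    exact_mod_cast h
  have hef : e = n * f := by
    have h1 : c = finrank ℂ X0 * n := le_antisymm hspan hdim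
    rw [hXdim, hcθ, mul_right_comm, mul_comm f n] at h1
    exact Nat.eq_of_mul_eq_mul_right hdθ h1
  have hf0 : 0 < f := by
    rcases Nat.eq_zero_or_pos f with h | h
    · exfalso
      rw [h, zero_mul] at hXdim
      exact hX00 (Submodule.finrank_eq_zero.mp hXdim)
    · exact h
  -- standard models
  obtain ⟨eτ, heτ⟩ := exists_pi_equiv θ (τ.comp (Subgroup.inclusion hNM)) b (fun x => hb x)
  let τ' : Representation ℂ M (Fin b → Fin dθ → ℂ) := Char.transport τ eτ
  haveI hτ' : τ'.IsIrreducible := Char.isIrreducible_congr (Char.transportEquiv τ eτ) hτ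
  have hτN : ∀ x : N, τ' ⟨(x : G), hNM x.2⟩ = diag (Fin b) (θ x) := fun x =>
    LinearMap.ext fun w => funext fun j => by
      show eτ (τ ⟨(x : G), hNM x.2⟩ (eτ.symm w)) j = θ x (w j)
      have := heτ x (eτ.symm w) j
      rw [LinearEquiv.apply_symm_apply] at this
      exact this
  obtain ⟨eV, heV⟩ := exists_pi_equiv τ' (ρ.comp M.subtype) a (fun m => by
    rw [Char.character_transport]; exact hMhom m)
  haveI : Nontrivial (Fin b → Fin dθ → ℂ) := CharApp.nontrivial_of_irr τ'
  have hb0 : 0 < b := by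
    have := CharApp.finrank_pos_of_irr τ
    rw [Module.finrank_fin_fun, hdM] at this
    exact Nat.pos_of_mul_pos_right this
  obtain ⟨eX, heX⟩ := exists_pi_equiv θ pX.toRepresentation f hf
  let K : Submodule ℂ (X0 →ₗ[ℂ] (Fin b → Fin dθ → ℂ)) :=
    { carrier := {g | ∀ (x : N) (v : X0), g (pX.toRepresentation x v) = diag (Fin b) (θ x) (g v)}
      add_mem' := fun hg hg' x v => by simp [hg x v, hg' x v]
      zero_mem' := fun x v => by simp
      smul_mem' := fun s g hg x v => by simp [hg x v] }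
  have hKeq : finrank ℂ K = b * f := by
    letI : Fintype N := Fintype.ofFinite N
    let E : K ≃ₗ[ℂ] Representation.IntertwiningMap pX.toRepresentation (powRep (Fin b) θ) :=
      { toFun := fun g => ⟨(g : X0 →ₗ[ℂ] _), fun x => LinearMap.ext fun v => g.2 x v⟩
        invFun := fun g => ⟨g.toLinearMap, fun x v => g.isIntertwining _ _ x v⟩
        left_inv := fun g => rfl
        right_inv := fun g => rfl
        map_add' := fun g g' => rfl
        map_smul' := fun s g => rfl }
    rw [E.finrank_eq]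
    have h := classInner_character_eq_finrank pX.toRepresentation (powRep (Fin b) θ)
    rw [show (powRep (Fin b) θ).character = (b : ℂ) • θ.character from funext fun x => by
        rw [powRep_character, Fintype.card_fin]; rfl,
      show pX.toRepresentation.character = (f : ℂ) • θ.character from funext hf,
      classInner_smul_left, classInner_smul_right, classInner_irr_self hθirr, mul_one, Complex.conj_natCast] at h
    exact_mod_cast h.symm
  have hKmem : ∀ u ∈ homSub M ρ τ', u.domRestrict X0 ∈ K := fun u hu x v => by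
    show u (ρ (x : G) (v : Fin c → ℂ)) = diag (Fin b) (θ x) (u v)
    rw [hu ⟨(x : G), hNM x.2⟩, hτN]
  have haK : a ≤ b * f := by
    rw [← hKeq]
    obtain ⟨w, hw⟩ := exists_ne (0 : Fin b → Fin dθ → ℂ)
    let coord : Fin a → K := fun j => ⟨((LinearMap.proj j).comp eV.toLinearMap).domRestrict X0,
      hKmem _ fun m v => heV m v j⟩
    have hli : LinearIndependent ℂ coord := by
      refine (Fintype.linearIndependent_iff (R := ℂ) (v := coord)).mpr ?_
      intro s hs j
      have h0 := eq_zero_of_restrict M H hfac ρ hirr X0 hX0 hX00 τ'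
        (u := ∑ l, s l • (LinearMap.proj l).comp eV.toLinearMap)
        (Submodule.sum_mem _ fun l _ => Submodule.smul_mem _ _ fun m v => heV m v l)
        (LinearMap.ext fun x => by
          have h2 := LinearMap.congr_fun (congrArg Subtype.val hs) x
          simpa [coord] using h2)
      have h3 := LinearMap.congr_fun h0 (eV.symm (Pi.single j w))
      simp only [LinearMap.sum_apply, LinearMap.smul_apply, LinearMap.coe_comp, LinearMap.coe_proj,
        Function.comp_apply, Function.eval_apply, LinearEquiv.coe_coe, LinearEquiv.apply_symm_apply,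
        Pi.single_apply, smul_ite, smul_zero, Finset.sum_ite_eq', Finset.mem_univ, if_true,
        LinearMap.zero_apply] at h3
      exact (smul_eq_zero.mp h3).resolve_right hw
    simpa using hli.fintype_card_le_finrank
  have hbn : b ^ 2 ≤ n := by
    letI : Fintype N := Fintype.ofFinite N
    letI : Fintype M := Fintype.ofFinite M
    have hnorm : ∀ {L : Type u} [Group L] [Fintype L] (φ : L → ℂ), IsIrrCharacter L φ →
        ∑ g : L, ‖φ g‖ ^ 2 = (Nat.card L : ℝ) := by
      intro L _ _ φ hφ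
      have h := classInner_irr_self hφ
      rw [classInner_self_eq, Complex.ofReal_eq_one,
        inv_mul_eq_one₀ (Nat.cast_ne_zero.mpr Nat.card_pos.ne')] at h
      exact h.symm
    have h1 := hnorm τ.character (isIrrCharacter_character τ)
    have h2 := hnorm θ.character hθirr
    have h3 : (b : ℝ) ^ 2 * (Nat.card N : ℝ) ≤ (Nat.card M : ℝ) := by
      rw [← h1, ← h2, Finset.mul_sum]
      calc ∑ x : N, (b : ℝ) ^ 2 * ‖θ.character x‖ ^ 2
          = ∑ x : N, ‖τ.character (Subgroup.inclusion hNM x)‖ ^ 2 :=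
            Finset.sum_congr rfl fun x _ => by
              rw [show τ.character (Subgroup.inclusion hNM x) = (b : ℂ) * θ.character x from hb x, norm_mul,
                Complex.norm_natCast, mul_pow]
        _ = ∑ y ∈ Finset.univ.image (Subgroup.inclusion hNM), ‖τ.character y‖ ^ 2 :=
            (Finset.sum_image (f := fun y => ‖τ.character y‖ ^ 2)
              (fun x _ y _ h => Subgroup.inclusion_injective hNM h)).symm
        _ ≤ _ := Finset.sum_le_sum_of_subset_of_nonneg (Finset.subset_univ _) fun _ _ _ => sq_nonneg _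
    have h4 : Nat.card M = n * Nat.card N := by
      rw [hindex, ← Subgroup.card_mul_index (N.subgroupOf M),
        Nat.card_congr (Subgroup.subgroupOfEquivOfLe hNM).toEquiv, mul_comm]
      rfl
    rw [h4, Nat.cast_mul] at h3
    have h5 := le_of_mul_le_mul_right h3 (Nat.cast_pos.mpr Nat.card_pos)
    exact_mod_cast h5
  have hn2 : n = b ^ 2 := by
    refine le_antisymm ?_ hbn
    refine Nat.le_of_mul_le_mul_right ?_ hf0
    calc n * f = a * b := by rw [hab, hef]
      _ ≤ b * f * b := Nat.mul_le_mul_right _ haK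
      _ = b ^ 2 * f := by ring
  have hb2 : 2 ≤ b := by
    by_contra h
    rw [show b = 1 by omega, one_pow] at hn2
    omega
  -- the projective representation on the multiplicity space
  haveI : NeZero b := ⟨hb0.ne'⟩
  have hθinv : ∀ (g : G) (x : N), θ.character ⟨g * x * g⁻¹, Subgroup.Normal.conj_mem (inferInstance : N.Normal) (x : G) x.2 g⟩
      = θ.character x := by
    intro g x
    have h1 := hNhom ⟨g * x * g⁻¹, Subgroup.Normal.conj_mem (inferInstance : N.Normal) (x : G) x.2 g⟩
    rw [isClassFunction_character ρ (x : G) g, hNhom x] at h1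
    exact (mul_left_cancel₀ (Nat.cast_ne_zero.mpr fun h => by rw [h, zero_mul] at hcθ; omega) h1).symm
  have hτinv : ∀ (g : G) (x : M), τ'.character ⟨g * x * g⁻¹, hMn.conj_mem x x.2 g⟩ = τ'.character x := by
    intro g x
    simp only [τ', Char.character_transport]
    have h1 := hMhom ⟨g * x * g⁻¹, hMn.conj_mem x x.2 g⟩
    rw [isClassFunction_character ρ (x : G) g, hMhom x] at h1
    exact (mul_left_cancel₀ ha0' h1).symm
  let κ : Matrix (Fin b) (Fin b) ℂ →ₐ[ℂ] Module.End ℂ (Fin b → Fin dθ → ℂ) := kron (Fin dθ → ℂ)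
  let Tw : G → GLb b → Prop := fun g u => ∃ S : (Module.End ℂ (Fin dθ → ℂ))ˣ,
    (∀ x : N, S.val * θ x
      = θ ⟨g * x * g⁻¹, Subgroup.Normal.conj_mem (inferInstance : N.Normal) (x : G) x.2 g⟩ * S) ∧
    ∀ m : M, κ u * diag (Fin b) S.val * τ' m
      = τ' ⟨g * m * g⁻¹, hMn.conj_mem m m.2 g⟩ * (κ u * diag (Fin b) S.val)
  have hTwex : ∀ g, ∃ u, Tw g u := by
    intro g
    obtain ⟨I, hI⟩ := exists_twist M τ' hτinv g
    obtain ⟨S, hS⟩ := exists_twist N θ hθinv g
    let DS : (Module.End ℂ (Fin b → Fin dθ → ℂ))ˣ := Units.map (diag (Fin b)) S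
    have hIN : ∀ x : N, I.val * diag (Fin b) (θ x)
        = diag (Fin b) (θ ⟨g * x * g⁻¹, Subgroup.Normal.conj_mem (inferInstance : N.Normal) (x : G) x.2 g⟩) * I := by
      intro x
      rw [← hτN x, ← hτN ⟨g * x * g⁻¹, Subgroup.Normal.conj_mem (inferInstance : N.Normal) (x : G) x.2 g⟩]
      exact hI ⟨(x : G), hNM x.2⟩
    have hSN : ∀ x : N, DS.val * diag (Fin b) (θ x)
        = diag (Fin b) (θ ⟨g * x * g⁻¹, Subgroup.Normal.conj_mem (inferInstance : N.Normal) (x : G) x.2 g⟩) * DS := by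
      intro x
      show diag (Fin b) S.val * _ = _ * diag (Fin b) S.val
      rw [← map_mul, ← map_mul, hS]
    set P : (Module.End ℂ (Fin b → Fin dθ → ℂ))ˣ := DS⁻¹ * I with hP
    have hPc : ∀ x : N, Commute P.val (diag (Fin b) (θ x)) := by
      intro x
      have h1 := hIN x
      have h2 := hSN x
      generalize diag (Fin b) (θ ⟨g * x * g⁻¹, Subgroup.Normal.conj_mem (inferInstance : N.Normal) (x : G) x.2 g⟩) = R
        at h1 h2
      rw [hP, Units.val_mul]
      show _ = _
      rw [mul_assoc, h1, ← mul_assoc, ← mul_assoc]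
      congr 1
      rw [Units.inv_mul_eq_iff_eq_mul, ← mul_assoc, h2, mul_assoc, Units.mul_inv, mul_one]
    obtain ⟨A, hA⟩ := exists_kron_of_commute θ P.val fun x => (hPc x).eq
    obtain ⟨A', hA'⟩ := exists_kron_of_commute θ P⁻¹.val
      fun x => (hPc x).units_inv_left.eq
    have hAA' : A * A' = 1 := kron_injective (W := Fin dθ → ℂ) (by
      rw [map_mul, ← hA, ← hA', Units.mul_inv, map_one])
    refine ⟨⟨A, A', hAA', mul_eq_one_comm.mp hAA'⟩, S, hS, fun m => ?_⟩
    have hIeq : κ A * diag (Fin b) S.val = I.val := by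
      show kron _ A * _ = _
      rw [kron_comm_diag, ← hA, hP, Units.val_mul]
      show DS.val * _ = _
      rw [← mul_assoc, Units.mul_inv, one_mul]
    show κ A * _ * _ = _ * (κ A * _)
    rw [hIeq]
    exact hI m
  have hTwmul : ∀ g h u v, Tw g u → Tw h v → Tw (g * h) (u * v) := by
    rintro g h u v ⟨S, hS, hS'⟩ ⟨S', hT, hT'⟩
    refine ⟨S * S', fun x => ?_, fun m => ?_⟩
    · rw [Units.val_mul, mul_assoc, hT, ← mul_assoc, hS, mul_assoc]
      congr 2
      ext; simp [mul_assoc]
    · have e1 : κ ((u * v : GLb b) : Matrix (Fin b) (Fin b) ℂ) * diag (Fin b) ((S * S' : (Module.End ℂ (Fin dθ → ℂ))ˣ) : Module.End ℂ _)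
          = (κ u * diag (Fin b) S.val) * (κ v * diag (Fin b) S'.val) := by
        rw [Units.val_mul, Units.val_mul, map_mul, map_mul, mul_assoc, mul_assoc,
          ← mul_assoc (κ (v : Matrix (Fin b) (Fin b) ℂ)), ← mul_assoc (diag (Fin b) S.val),
          show κ (v : Matrix (Fin b) (Fin b) ℂ) * diag (Fin b) S.val
            = diag (Fin b) S.val * κ (v : Matrix (Fin b) (Fin b) ℂ) from kron_comm_diag _ _]
      rw [e1, mul_assoc, hT', ← mul_assoc, hS', mul_assoc]
      congr 2
      ext; simp [mul_assoc]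
  have hTwuniq : ∀ g u v, Tw g u → Tw g v → (QuotientGroup.mk u : PGLb b) = QuotientGroup.mk v := by
    rintro g u v ⟨S, hS, hS'⟩ ⟨S', hT, hT'⟩
    let Tu : (Module.End ℂ (Fin b → Fin dθ → ℂ))ˣ := Units.map (κ : _ →* _) u * Units.map (diag (Fin b)) S
    let Tv : (Module.End ℂ (Fin b → Fin dθ → ℂ))ˣ := Units.map (κ : _ →* _) v * Units.map (diag (Fin b)) S'
    obtain ⟨s, hs0, hs⟩ := twist_unique M τ' g Tu Tv hS' hT'
    obtain ⟨t, ht0, ht⟩ := twist_unique N θ g S S' hS hT
    have h1 : κ (u : Matrix (Fin b) (Fin b) ℂ) * diag (Fin b) S.val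
        = s • (κ (v : Matrix (Fin b) (Fin b) ℂ) * diag (Fin b) S'.val) := hs
    have h2 : diag (Fin b) S.val = t • diag (Fin b) S'.val := by
      rw [ht]; rfl
    rw [h2, mul_smul_comm, ← smul_mul_assoc, ← smul_mul_assoc, ← map_smul, ← map_smul] at h1
    have h3 := (Units.mul_left_inj (Units.map (diag (Fin b)) S')).mp h1
    have h4 : t • (u : Matrix (Fin b) (Fin b) ℂ) = s • (v : Matrix (Fin b) (Fin b) ℂ) := kron_injective h3
    have h5 : u = scal b (Units.mk0 (s / t) (div_ne_zero hs0 ht0)) * v := by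
      refine Units.ext ?_
      rw [Units.val_mul, scal_val, smul_mul_assoc, one_mul, Units.val_mk0, div_eq_inv_mul, mul_smul, ← h4,
        smul_smul, inv_mul_cancel₀ ht0, one_smul]
    rw [h5, QuotientGroup.mk_mul, (mk_eq_one_iff _).mpr ⟨_, rfl⟩, one_mul]
  choose uf huf using hTwex
  let J : G →* PGLb b := MonoidHom.mk' (fun g => QuotientGroup.mk (uf g)) fun g h => by
    show (QuotientGroup.mk (uf (g * h)) : PGLb b) = QuotientGroup.mk (uf g) * QuotientGroup.mk (uf h)
    rw [← QuotientGroup.mk_mul]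
    exact hTwuniq _ _ _ (huf _) (hTwmul _ _ _ _ (huf g) (huf h))
  have hJN : ∀ x ∈ N, J x = 1 := by
    intro x hx
    refine (hTwuniq x (uf x) 1 (huf x) ⟨θ.toHomUnits ⟨x, hx⟩, fun y => ?_, fun m => ?_⟩).trans rfl
    · show θ ⟨x, hx⟩ * θ y = θ _ * θ ⟨x, hx⟩
      rw [← map_mul, ← map_mul]
      congr 1
      ext; simp
    · rw [Units.val_one, map_one, one_mul]
      show diag (Fin b) (θ ⟨x, hx⟩) * τ' m = τ' _ * diag (Fin b) (θ ⟨x, hx⟩)
      rw [← hτN ⟨x, hx⟩, ← map_mul, ← map_mul]
      congr 1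
      ext; simp
  have hkerM : J.ker ⊓ M = N := by
    rcases hMmin (J.ker ⊓ M) inferInstance (le_inf (fun x hx => hJN x hx) hNM) inf_le_right with h | h
    · exact h
    exfalso
    -- then all matrices commute with the image
    let P : Matrix (Fin b) (Fin b) ℂ := Matrix.single 0 0 1
    obtain ⟨s, hs⟩ := CharApp.exists_scalar_of_commute τ' (κ P) fun m => by
      have hm : J (m : G) = 1 := (h.ge m.2).1
      obtain ⟨z, hz⟩ := (mk_eq_one_iff (uf (m : G))).mp hm
      obtain ⟨S, hS, hS'⟩ := huf (m : G)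
      let Tu : (Module.End ℂ (Fin b → Fin dθ → ℂ))ˣ :=
        Units.map (κ : _ →* _) (uf (m : G)) * Units.map (diag (Fin b)) S
      obtain ⟨s, hs0, hs⟩ := twist_unique M τ' (m : G) (τ'.toHomUnits m) Tu (fun y => by
        show τ' m * τ' y = τ' _ * τ' m
        rw [← map_mul, ← map_mul]
        congr 1
        ext; simp) hS'
      have hm' : τ' m = s • (κ (uf (m : G) : Matrix (Fin b) (Fin b) ℂ) * diag (Fin b) S.val) := hs
      rw [hm', hz, scal_val, map_smul, map_one, smul_mul_assoc, one_mul, smul_smul, mul_smul_comm,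
        smul_mul_assoc]
      exact congrArg _ (kron_comm_diag P S.val)
    have hP : P = s • 1 := kron_injective (W := Fin dθ → ℂ) (by rw [map_smul, map_one]; exact hs)
    let one' : Fin b := ⟨1, by omega⟩
    have h0 := congrFun (congrFun hP 0) 0
    have h1 := congrFun (congrFun hP one') one'
    have hne : (0 : Fin b) ≠ one' := fun hh => by simpa [one'] using congrArg Fin.val hh
    simp [P] at h0
    simp [P, Matrix.single, hne, hne.symm] at h1
    rw [← h0] at h1
    simp at h1
  -- the next chief factor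
  have hM_top : M ≠ ⊤ := by
    intro htop
    have hHN : H = N := by rw [← hMinf, htop, top_inf_eq]
    obtain ⟨x, hx⟩ : ∃ x : G, x ∉ N := by
      by_contra hall
      push Not at hall
      exact hNtop (eq_top_iff.mpr fun x _ => hall x)
    have hgen : N ⊔ Subgroup.zpowers x = ⊤ := by
      refine hH.2 _ (lt_of_le_of_ne (hHN ▸ le_sup_left) fun hh => hx ?_)
      rw [← hHN, hh]
      exact Subgroup.mem_sup_right (Subgroup.mem_zpowers x)
    have hle : n ≤ q := by
      rw [hn, hHN, Subgroup.index_eq_card]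
      have hcyc : ∀ y : G ⧸ N, y ∈ Subgroup.zpowers (QuotientGroup.mk x : G ⧸ N) := by
        intro y
        obtain ⟨g, rfl⟩ := QuotientGroup.mk_surjective y
        obtain ⟨u, hu, v, hv, rfl⟩ :=
          Subgroup.mem_sup_of_normal_left.mp (hgen ▸ Subgroup.mem_top g : g ∈ N ⊔ Subgroup.zpowers x)
        obtain ⟨j, rfl⟩ := Subgroup.mem_zpowers_iff.mp hv
        rw [QuotientGroup.mk_mul, (QuotientGroup.eq_one_iff u).mpr hu, one_mul, QuotientGroup.mk_zpow]
        exact Subgroup.zpow_mem _ (Subgroup.mem_zpowers _) j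
      rw [← orderOf_eq_card_of_forall_mem_zpowers hcyc]
      refine orderOf_le_of_pow_eq_one hq.pos ?_
      rw [← QuotientGroup.mk_pow, QuotientGroup.eq_one_iff]
      exact hMexp x (htop ▸ Subgroup.mem_top x)
    have hqb : q ∣ b := by
      refine hq.dvd_of_dvd_pow (n := 2) ?_
      rw [← hn2, hindex, hi]
      exact dvd_pow_self q (Nat.succ_ne_zero i)
    have hqle := Nat.le_of_dvd hb0 hqb
    rw [hn2, pow_two] at hle
    have := Nat.mul_le_mul_right b hb2
    omega
  have hsolvM : Group.IsSolvable (G ⧸ M) :=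
    Group.isSolvable_of_surjective (f := QuotientGroup.map N M (MonoidHom.id G) hNM) fun x => by
      obtain ⟨g, rfl⟩ := QuotientGroup.mk_surjective x
      exact ⟨QuotientGroup.mk g, rfl⟩
  obtain ⟨K2, r, hK2n, hMK2, hK2ne, hr, hK2exp, hK2comm, -⟩ := exists_chief M hsolvM hM_top
  haveI := hK2n
  set D := K2 ⊓ H with hD
  have hDne : D ≠ N := by
    intro h
    refine hK2ne (le_antisymm (fun x hx => ?_) hMK2)
    obtain ⟨m, hm, k, hk, rfl⟩ := hfac x
    have hkD : k ∈ D := ⟨by
      have := mul_mem (inv_mem (hMK2 hm)) hx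
      rwa [inv_mul_cancel_left] at this, hk⟩
    exact mul_mem hm (hNM (h ▸ hkD))
  have hND : N ≤ D := le_inf (hNM.trans hMK2) hNH
  have hDnorm : ∀ h ∈ H, ∀ x ∈ D, h * x * h⁻¹ ∈ D := fun h hh x hx =>
    ⟨hK2n.conj_mem x hx.1 h, H.mul_mem (H.mul_mem hh hx.2) (H.inv_mem hh)⟩
  have hnotcent : ¬ ∀ m ∈ M, ∀ x ∈ D, x * m * x⁻¹ * m⁻¹ ∈ N := by
    intro hcent
    refine hDne (hcore D ⟨fun x hx g => ?_⟩ hND inf_le_right)
    obtain ⟨m, hm, h, hh, rfl⟩ := hfac g
    have hx' := hDnorm h hh x hx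
    have h1 := hcent m hm _ hx'
    rw [show m * h * x * (m * h)⁻¹ =
      (h * x * h⁻¹ * m * (h * x * h⁻¹)⁻¹ * m⁻¹)⁻¹ * (h * x * h⁻¹) by group]
    exact mul_mem (inv_mem (hND h1)) hx'
  have hrq : r ≠ q := by
    rintro rfl
    exact hnotcent fun m hm x hx =>
      commute_of_same_prime N M K2 hNM hMne hr hMexp hK2exp hMmin m hm x hx.1
  have hrb : Nat.Coprime r b := by
    refine hr.coprime_iff_not_dvd.mpr fun hdvd => hrq ?_
    have h1 : r ∣ N.relIndex M := by rw [← hindex, hn2]; exact dvd_pow hdvd two_ne_zero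
    rw [hi] at h1
    exact (Nat.prime_dvd_prime_iff_eq hr hq).mp (hr.dvd_of_dvd_pow h1)
  have hDM : ∀ x, x ∈ M → x ∈ H → x ∈ N := fun x h1 h2 => hMinf ▸ ⟨h1, h2⟩
  obtain ⟨Λ, hΛ, P, hΛnt, hP0, hPidem, hPorth, hPsum, hPperm⟩ :=
    exists_idempotents J D hr.pos hrb (fun x hx y hy => by
      have hc : x * y * x⁻¹ * y⁻¹ ∈ N :=
        hDM _ (hK2comm x hx.1 y hy.1) (mul_mem (mul_mem (mul_mem hx.2 hy.2) (inv_mem hx.2)) (inv_mem hy.2))
      have h1 := hJN _ hc
      rw [map_mul, map_mul, map_mul, map_inv, map_inv, mul_inv_eq_one, mul_inv_eq_iff_eq_mul] at h1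
      exact h1) (fun x hx => by
      rw [← map_pow]
      exact hJN _ (hDM _ (hK2exp x hx.1) (pow_mem hx.2 r))) (by
      by_contra hall
      push Not at hall
      refine hnotcent fun m hm x hx => hkerM ▸ ⟨?_, ?_⟩
      · show J (x * m * x⁻¹ * m⁻¹) = 1
        rw [map_mul, map_mul, map_mul, map_inv, map_inv, hall x hx]
        group
      · exact M.mul_mem (hMn.conj_mem m hm x) (M.inv_mem hm))
  haveI := hΛnt
  -- the blocks
  obtain ⟨G0, hMG0, hG0, X, hX, hXinv, hXdim'⟩ := exists_block M H hfac ρ hirr X0 hX0 hX00 τ' a eV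
    (fun m v j => heV m v j) K hKmem (hKeq.trans_le (by nlinarith [hab, hef, hn2])) (fun l => κ (P l))
    (fun l => by rw [← map_mul, hPidem]) (fun l l' h => by rw [← map_mul, hPorth l l' h, map_zero])
    (by rw [← map_sum, hPsum, map_one])
    (fun l g hg x v => by
      show κ (P l) (g _) = diag (Fin b) (θ x) (κ (P l) (g v))
      rw [hg x v, ← Module.End.mul_apply, ← Module.End.mul_apply]
      exact LinearMap.congr_fun (kron_comm_diag _ _) _)
    (fun l => by
      have hne : κ (P l) ≠ 0 := fun h => hP0 l (kron_injective (W := Fin dθ → ℂ) (h.trans (map_zero _).symm))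
      obtain ⟨j, w, hjw⟩ : ∃ j w, κ (P l) (Pi.single j w) ≠ 0 := by
        by_contra hall
        push Not at hall
        refine hne (LinearMap.ext fun v => ?_)
        rw [← Finset.univ_sum_single v, map_sum]
        exact Finset.sum_eq_zero fun j _ => hall j _
      let i₀ : Fin f := ⟨0, hf0⟩
      refine ⟨(LinearMap.single ℂ (fun _ : Fin b => Fin dθ → ℂ) j).comp ((LinearMap.proj i₀).comp eX.toLinearMap),
        fun x v => funext fun j' => ?_, fun h => hjw ?_⟩
      · simp only [LinearMap.coe_comp, Function.comp_apply, LinearMap.coe_proj, Function.eval_apply,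
          LinearEquiv.coe_coe, LinearMap.coe_single, heX, diag_apply]
        rcases eq_or_ne j' j with rfl | hj
        · simp
        · simp [hj]
      · have := LinearMap.congr_fun h (eX.symm (Pi.single i₀ w))
        simpa using this)
    (fun h hh => by
      obtain ⟨S, hS, hS'⟩ := huf h
      refine ⟨Units.map (κ : _ →* _) (uf h) * Units.map (diag (Fin b)) S, hS', fun l => ?_⟩
      obtain ⟨l', hl'⟩ := hPperm h (uf h) rfl (hDnorm h hh) l
      refine ⟨l', ?_⟩
      show κ (uf h : Matrix (Fin b) (Fin b) ℂ) * diag (Fin b) S.val * κ (P l)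
        = κ (P l') * (κ (uf h : Matrix (Fin b) (Fin b) ℂ) * diag (Fin b) S.val)
      rw [mul_assoc, show diag (Fin b) S.val * κ (P l) = κ (P l) * diag (Fin b) S.val
        from (kron_comm_diag _ _).symm, ← mul_assoc, ← map_mul, hl', map_mul, mul_assoc])
  rw [Module.finrank_fin_fun] at hXdim'
  exact hrec M hMn hNM hMne G0 hMG0 hG0 X hX hXinv hXdim'

/-- An irreducible character with homogeneous restrictions to the normal subgroups above `N`
is not induced from a proper subgroup containing `N`. -/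
theorem no_induction {G : Type u} [Group G] [Fintype G] (N : Subgroup G) [N.Normal]
    (hsolv : Group.IsSolvable (G ⧸ N)) {χ : G → ℂ} (hχ : IsIrrCharacter G χ)
    (hqp : ∀ M : Subgroup G, M.Normal → N ≤ M →
      ∃ (φ : M → ℂ) (e : ℕ), IsIrrCharacter M φ ∧ (fun m : M => χ m) = (e : ℂ) • φ)
    (H : Subgroup G) (hNH : N ≤ H) (hH : H ≠ ⊤) (ψ : H → ℂ) (hψ : IsCharacter H ψ) :
    Cfsg.indFun H ψ ≠ χ := by
  intro heq
  letI : Fintype H := Fintype.ofFinite H
  obtain ⟨c, ρ, hρ, rfl⟩ := hχ
  obtain ⟨k, σ, rfl⟩ := hψ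
  haveI := hρ
  have hclass := isClassFunction_character ρ
  have hone : classInner ρ.character ρ.character = 1 := classInner_irr_self (isIrrCharacter_character ρ)
  nth_rewrite 1 [← heq] at hone
  rw [frobenius_reciprocity H σ.character (fun a b => hclass a b)] at hone
  let ρH : Representation ℂ H (Fin c → ℂ) := ρ.comp H.subtype
  have hpos : finrank ℂ (Representation.IntertwiningMap ρH σ) = 1 := by
    have h1 := classInner_character_eq_finrank ρH σ
    rw [show classInner σ.character ρH.character = 1 from hone] at h1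
    exact_mod_cast h1.symm
  have hne : classInner ρH.character σ.character = 1 := by
    rw [← classInner_conj_symm, show classInner σ.character ρH.character = 1 from hone, map_one]
  have hpos' : finrank ℂ (Representation.IntertwiningMap σ ρH) = 1 := by
    have h1 := classInner_character_eq_finrank σ ρH
    rw [hne] at h1
    exact_mod_cast h1.symm
  obtain ⟨g, hg⟩ := (Module.finrank_pos_iff_exists_ne_zero (R := ℂ)).mp (hpos'.symm ▸ one_pos :
    0 < finrank ℂ (Representation.IntertwiningMap σ ρH))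
  refine no_block N.index N le_rfl hsolv ρ (fun M hM hNM => ?_) H hNH hH (LinearMap.range g.toLinearMap) ?_ ?_ ?_
  · obtain ⟨φ, e, hφ, he⟩ := hqp M hM hNM
    exact ⟨φ, e, hφ, fun m => congrFun he m⟩
  · intro h
    exact hg (Representation.IntertwiningMap.ext (LinearMap.range_eq_bot.mp h))
  · rintro h hh _ ⟨v, rfl⟩
    exact ⟨σ ⟨h, hh⟩ v, g.isIntertwining σ ρH ⟨h, hh⟩ v⟩
  · have h1 := congrFun heq 1
    rw [indFun_one_apply, Representation.char_one, Representation.char_one, Module.finrank_fin_fun,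
      Module.finrank_fin_fun] at h1
    have h2 : H.index * k = c := by exact_mod_cast h1
    calc finrank ℂ (LinearMap.range g.toLinearMap) * H.index ≤ k * H.index :=
          Nat.mul_le_mul_right _ ((LinearMap.finrank_range_le _).trans_eq (Module.finrank_fin_fun ℂ))
      _ = c := by rw [mul_comm]; exact h2

end Cfsg.Agent.Berger
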